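import Groth.Agent.EtCoh.K23.ConvRing
import Mathlib.RingTheory.Localization.Away.Basic
import Mathlib.RingTheory.AdicCompletion.Completeness
import Mathlib.RingTheory.AdicCompletion.Algebra

/-!
# The data `ConvRing.Dat` on localizations `A[1/t]`
-/

set_option autoImplicit false
open Polynomial

namespace K23.FGAway

open K23.GabRoot K23.ConvRing

universe u v

/-- Quotients of henselian pairs. -/
theorem henselian_of_surjective {A : Type u} {C : Type u} [CommRing A] [CommRing C] (f : A →+* C)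
    (hf : Function.Surjective f) (I : Ideal A) [HenselianRing A I] : HenselianRing C (I.map f) := by
  have hI : I.map f ≤ Ideal.jacobson ⊥ := by
    intro x hx
    rw [Ideal.mem_jacobson_bot]
    intro y
    have h1 : x * y ∈ I.map f := Ideal.mul_mem_right _ _ hx
    obtain ⟨z, hz, hzx⟩ := (Ideal.mem_map_iff_of_surjective _ hf).1 h1
    rw [← hzx]
    have h2 := Ideal.mem_jacobson_bot.1 ((HenselianRing.jac : I ≤ _) hz) 1
    rw [mul_one] at h2
    have h3 := h2.map f
    rwa [map_add, map_one] at h3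
  rw [Groth.Agent.S0524.result]
  refine ⟨hI, fun n hn p hp hpI => ?_⟩
  have h1 : ∀ i, ∃ x ∈ I, f x = p.coeff i := fun i => (Ideal.mem_map_iff_of_surjective _ hf).1 (hpI i)
  choose c hcI hc using h1
  obtain ⟨α, hα, hα2⟩ := exists_root hn c hcI
  have hpol : p = pol n (fun j => f (c j)) := by
    ext i
    rw [coeff_pol]
    split_ifs with h
    · exact (hc i).symm
    · exact coeff_eq_zero_of_natDegree_lt (lt_of_le_of_lt hp (not_le.1 h))
  have h3 : f α - 1 ∈ I.map f := by
    have := Ideal.mem_map_of_mem f hα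
    rwa [map_sub, map_one] at this
  refine ⟨f α, ⟨h3, ?_⟩, ?_⟩
  · rw [hpol, isRoot_iff, ← map_G, hα2, map_zero]
  · rintro β ⟨hβ1, hβ2⟩
    rw [hpol, isRoot_iff] at hβ2
    refine root_unique hI _ (fun j => Ideal.mem_map_of_mem _ (hcI j)) hβ1 h3 hβ2 ?_
    rw [← map_G, hα2, map_zero]

section Away

variable (A : Type u) [CommRing A] (t : A) [HenselianRing A (Ideal.span {t})] (B : Type u) [CommRing B]
  [Algebra A B] [IsLocalization.Away t B]

/-- `A[1/t]` with the image of `A`. -/
def dat : Dat B where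
  R := (algebraMap A B).range
  t := ⟨algebraMap A B t, t, rfl⟩
  hens := by
    have h := henselian_of_surjective (algebraMap A B).rangeRestrict
      (algebraMap A B).rangeRestrict_surjective (Ideal.span {t})
    rwa [Ideal.map_span, Set.image_singleton] at h
  abs x := by
    obtain ⟨⟨a, ⟨_, l, rfl⟩⟩, h⟩ := IsLocalization.surj (Submonoid.powers t) x
    refine ⟨l, a, ?_⟩
    rw [← h, map_pow, mul_comm]

theorem mem_F {k : ℕ} {x : B} : x ∈ (dat A t B).F k ↔ ∃ a : A, algebraMap A B (t ^ k * a) = x := by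
  rw [Dat.mem_F]
  constructor
  · rintro ⟨_, ⟨a, rfl⟩, h⟩
    refine ⟨a, ?_⟩
    rw [← h, map_mul, map_pow]
    rfl
  · rintro ⟨a, rfl⟩
    refine ⟨algebraMap A B a, ⟨a, rfl⟩, ?_⟩
    rw [map_mul, map_pow]
    rfl

end Away

section Pair

variable {A A' : Type u} [CommRing A] [CommRing A'] (t : A) [HenselianRing A (Ideal.span {t})] (t' : A')
  [HenselianRing A' (Ideal.span {t'})] (i : A →+* A') (hi : i t = t')
  (hinj : ∀ (k : ℕ) (a : A), i a ∈ Ideal.span {t' ^ k} → a ∈ Ideal.span {t ^ k})
  (hsurj : ∀ (k : ℕ) (y : A'), ∃ a : A, i a - y ∈ Ideal.span {t' ^ k})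
  {B B' : Type u} [CommRing B] [CommRing B'] [Algebra A B] [Algebra A' B'] [IsLocalization.Away t B]
  [IsLocalization.Away t' B'] (φ : B →+* B') (hφ : ∀ a, φ (algebraMap A B a) = algebraMap A' B' (i a))

include hφ in
theorem map_R (x : B) (hx : x ∈ (dat A t B).R) : φ x ∈ (dat A' t' B').R := by
  obtain ⟨a, rfl⟩ := hx
  exact ⟨i a, (hφ a).symm⟩

include hi hφ in
theorem map_t : φ (dat A t B).t = (dat A' t' B').t := by
  change φ (algebraMap A B t) = algebraMap A' B' t'
  rw [hφ, hi]

include hi hinj hφ in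
theorem mem_F_of_map (k : ℕ) (x : B) (hx : φ x ∈ (dat A' t' B').F k) : x ∈ (dat A t B).F k := by
  rw [mem_F] at hx ⊢
  obtain ⟨a', ha'⟩ := hx
  obtain ⟨⟨a, ⟨_, l, rfl⟩⟩, h⟩ := IsLocalization.surj (Submonoid.powers t) x
  simp only at h
  -- `i a = t' ^ (k + l) a'` in `B'`
  have h1 : algebraMap A' B' (i a) = algebraMap A' B' (t' ^ (k + l) * a') := by
    rw [← hφ, ← h, map_mul, ← ha', hφ, map_pow, hi, ← map_mul]
    congr 1
    ring
  obtain ⟨⟨_, s, rfl⟩, hs⟩ := (IsLocalization.eq_iff_exists (Submonoid.powers t') B').1 h1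
  simp only at hs
  have h2 : i (t ^ s * a) ∈ Ideal.span {t' ^ (s + (k + l))} := by
    rw [map_mul, map_pow, hi, hs, Ideal.mem_span_singleton]
    exact ⟨a', by ring⟩
  obtain ⟨b, hb⟩ := Ideal.mem_span_singleton.1 (hinj _ _ h2)
  refine ⟨b, ?_⟩
  have hu : IsUnit (algebraMap A B t ^ (s + l)) := (IsLocalization.Away.algebraMap_isUnit t).pow _
  apply hu.mul_left_cancel
  have h3 : algebraMap A B t ^ (s + l) * x = algebraMap A B (t ^ s * a) := by
    rw [map_mul, ← h, map_pow, map_pow]
    ring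
  rw [h3, hb, map_mul, map_mul, map_pow, map_pow]
  ring

include hsurj hi hφ in
theorem dense (y : B') (k : ℕ) : ∃ b : B, φ b - y ∈ (dat A' t' B').F k := by
  obtain ⟨⟨a', ⟨_, l, rfl⟩⟩, h⟩ := IsLocalization.surj (Submonoid.powers t') y
  simp only at h
  obtain ⟨a, ha⟩ := hsurj (k + l) a'
  obtain ⟨c, hc⟩ := Ideal.mem_span_singleton.1 ha
  have hu : IsUnit (algebraMap A B t ^ l) := (IsLocalization.Away.algebraMap_isUnit t).pow _
  obtain ⟨v, hv⟩ := hu.exists_right_inv
  refine ⟨algebraMap A B a * v, ?_⟩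
  rw [mem_F]
  refine ⟨c, ?_⟩
  have hu' : IsUnit (algebraMap A' B' t' ^ l) := (IsLocalization.Away.algebraMap_isUnit t').pow _
  apply hu'.mul_right_cancel
  have h2 : φ v * algebraMap A' B' t' ^ l = 1 := by
    have := congrArg φ hv
    rw [map_mul, map_one, map_pow, hφ, hi] at this
    rw [mul_comm]
    exact this
  have h3 : (φ (algebraMap A B a * v) - y) * algebraMap A' B' t' ^ l = algebraMap A' B' (i a - a') := by
    rw [sub_mul, map_mul, mul_assoc, h2, mul_one, map_sub, hφ, ← h, map_pow]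
  rw [h3, hc, map_mul, map_mul, map_pow, map_pow]
  ring

end Pair

section Completion

variable {A : Type u} [CommRing A] (I : Ideal A) (h : I.FG)

include h in
theorem isAdicComplete_hat : IsAdicComplete (I.map (algebraMap A (AdicCompletion I A))) (AdicCompletion I A) :=
  (IsAdicComplete.map_algebraMap_iff _ _).mpr (AdicCompletion.isAdicComplete h)

include h in
theorem henselianRing_hat : HenselianRing (AdicCompletion I A) (I.map (algebraMap A (AdicCompletion I A))) :=
  have := isAdicComplete_hat I h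
  inferInstance

include h in
theorem mem_map_pow_iff (k : ℕ) (z : AdicCompletion I A) :
    z ∈ (I ^ k).map (algebraMap A (AdicCompletion I A)) ↔ AdicCompletion.eval I A k z = 0 := by
  rw [← LinearMap.mem_ker, ← AdicCompletion.pow_smul_top_eq_ker_eval h, Ideal.smul_top_eq_map]
  rfl

include h in
theorem hat_inj (k : ℕ) (a : A) (ha : algebraMap A (AdicCompletion I A) a ∈
    (I ^ k).map (algebraMap A (AdicCompletion I A))) : a ∈ I ^ k := by
  rw [mem_map_pow_iff I h] at ha
  have h1 : Submodule.Quotient.mk (p := I ^ k • (⊤ : Submodule A A)) a = 0 := ha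
  rw [Submodule.Quotient.mk_eq_zero] at h1
  simpa using h1

include h in
theorem hat_surj (k : ℕ) (y : AdicCompletion I A) : ∃ a : A, algebraMap A (AdicCompletion I A) a - y ∈
    (I ^ k).map (algebraMap A (AdicCompletion I A)) := by
  obtain ⟨a, ha⟩ := Submodule.Quotient.mk_surjective _ (AdicCompletion.eval I A k y)
  refine ⟨a, ?_⟩
  rw [mem_map_pow_iff I h, map_sub, ← ha]
  exact sub_self _

variable (A) (t : A)

theorem henselianRing_hat_span :
    HenselianRing (AdicCompletion (Ideal.span {t}) A)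
      (Ideal.span {algebraMap A (AdicCompletion (Ideal.span {t}) A) t}) := by
  have h1 : (Ideal.span {t}).FG := ⟨{t}, by simp⟩
  have h2 := henselianRing_hat (Ideal.span {t}) h1
  rwa [Ideal.map_span, Set.image_singleton] at h2

theorem hat_inj_span (k : ℕ) (a : A) (ha : algebraMap A (AdicCompletion (Ideal.span {t}) A) a ∈
    Ideal.span {algebraMap A (AdicCompletion (Ideal.span {t}) A) t ^ k}) : a ∈ Ideal.span {t ^ k} := by
  have h1 : (Ideal.span {t}).FG := ⟨{t}, by simp⟩
  rw [← Ideal.span_singleton_pow]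
  apply hat_inj (Ideal.span {t}) h1
  rwa [Ideal.span_singleton_pow, Ideal.map_span, Set.image_singleton, map_pow]

theorem hat_surj_span (k : ℕ) (y : AdicCompletion (Ideal.span {t}) A) :
    ∃ a : A, algebraMap A (AdicCompletion (Ideal.span {t}) A) a - y ∈
    Ideal.span {algebraMap A (AdicCompletion (Ideal.span {t}) A) t ^ k} := by
  have h1 : (Ideal.span {t}).FG := ⟨{t}, by simp⟩
  obtain ⟨a, ha⟩ := hat_surj (Ideal.span {t}) h1 k y
  refine ⟨a, ?_⟩
  rwa [Ideal.span_singleton_pow, Ideal.map_span, Set.image_singleton, map_pow] at ha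

end Completion

end K23.FGAway
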