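import Groth.Agent.EtCoh.K23.HQAlg
import Groth.Agent.EtCoh.K23.FGAway

/-!
# The theorem of Fujiwara–Gabber, principal case

`Hpull_bijective_away`: `A → A'` such that `(A, t)`, `(A', t')` are henselian pairs and `A / t ^ k → A' / t' ^ k`
is bijective for all `k`; then `H^n(A[1/t], F) → H^n(A'[1/t'], F)` is bijective for all torsion sheaves `F`
and all `n`.
-/

set_option autoImplicit false
set_option backward.isDefEq.respectTransparency.types false
universe u
open CategoryTheory CategoryTheory.Limits AlgebraicGeometry Opposite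

namespace K23.FGMain

open K23.FGAway K23.ConvRing

theorem Hpull_bijective_away {A A' : Type u} [CommRing A] [CommRing A'] (t : A)
    [HenselianRing A (Ideal.span {t})] (t' : A') [HenselianRing A' (Ideal.span {t'})] (i : A →+* A')
    (hi : i t = t') (hinj : ∀ (k : ℕ) (a : A), i a ∈ Ideal.span {t' ^ k} → a ∈ Ideal.span {t ^ k})
    (hsurj : ∀ (k : ℕ) (y : A'), ∃ a : A, i a - y ∈ Ideal.span {t' ^ k})
    {B B' : Type u} [CommRing B] [CommRing B'] [Algebra A B] [Algebra A' B'] [IsLocalization.Away t B]
    [IsLocalization.Away t' B'] (φ : B →+* B') (hφ : ∀ a, φ (algebraMap A B a) = algebraMap A' B' (i a))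
    [PreservesFiniteLimits (EtCoh.pull (Spec.map (CommRingCat.ofHom φ)))]
    (F : EtCoh.Ab (Spec (CommRingCat.of B))) (hF : EtCoh.IsTorsion F) (n : ℕ) :
    Function.Bijective (EtCore.Hpull (Spec.map (CommRingCat.ofHom φ)) F n) :=
  HQAlg.Hpull_bijective (dat A t B) (dat A' t' B') φ (fun x hx => map_R t t' i φ hφ x hx)
    (map_t t t' i hi φ hφ) (mem_F_of_map t t' i hi hinj φ hφ) (dense t t' i hi hsurj φ hφ) F hF n

end K23.FGMain
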