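import Groth.Agent.EtCoh.K23.FGAway
import Groth.Agent.S1958
import Mathlib.RingTheory.LaurentSeries

/-!
# `R{t} → R[[t]]` is an isomorphism modulo powers of `t`
-/

set_option autoImplicit false
open Polynomial

namespace K23.FGLaurentAlg

universe u

variable (R : Type u) [CommRing R] (B : Type u) [CommRing B] [Algebra R[X] B]
  (hB : Hens2.IsPairHenselization R[X] (Ideal.span {(X : R[X])}) B) (ψ : B →ₐ[R[X]] PowerSeries R)

theorem map_span_pow (k : ℕ) : (Ideal.span {(X : R[X])} ^ k).map (algebraMap R[X] B) =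
    Ideal.span {algebraMap R[X] B X ^ k} := by
  rw [Ideal.span_singleton_pow, Ideal.map_span, Set.image_singleton, map_pow]

include hB in
theorem henselianRing : HenselianRing B (Ideal.span {algebraMap R[X] B X}) := by
  have h := hB.1
  rwa [Ideal.map_span, Set.image_singleton] at h

theorem henselianRing_powerSeries :
    HenselianRing (PowerSeries R) (Ideal.span {(PowerSeries.X : PowerSeries R)}) := inferInstance

theorem psi_X : ψ (algebraMap R[X] B X) = PowerSeries.X := by
  rw [AlgHom.commutes]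
  exact Polynomial.coe_X

theorem surj (k : ℕ) (y : PowerSeries R) :
    ∃ b : B, ψ b - y ∈ Ideal.span {(PowerSeries.X : PowerSeries R) ^ k} := by
  refine ⟨algebraMap R[X] B (PowerSeries.trunc k y), ?_⟩
  rw [Ideal.mem_span_singleton, PowerSeries.X_pow_dvd_iff]
  intro m hm
  rw [AlgHom.commutes, map_sub]
  change PowerSeries.coeff m ((PowerSeries.trunc k y : R[X]) : PowerSeries R) - _ = 0
  rw [Polynomial.coeff_coe, PowerSeries.coeff_trunc, if_pos hm, sub_self]

include hB in
theorem exists_sub_mem (k : ℕ) (b : B) :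
    ∃ p : R[X], b - algebraMap R[X] B p ∈ Ideal.span {algebraMap R[X] B X ^ k} := by
  obtain ⟨p, hp⟩ := ((Groth.Agent.S1958.result R[X] (Ideal.span {(X : R[X])}) B hB).2 k).2
    (Ideal.Quotient.mk _ b)
  obtain ⟨p, rfl⟩ := Ideal.Quotient.mk_surjective p
  rw [Ideal.quotientMap_mk] at hp
  refine ⟨p, ?_⟩
  rw [← map_span_pow, ← Ideal.Quotient.eq]
  exact hp.symm

include hB in
theorem inj (k : ℕ) (b : B) (hb : ψ b ∈ Ideal.span {(PowerSeries.X : PowerSeries R) ^ k}) :
    b ∈ Ideal.span {algebraMap R[X] B X ^ k} := by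
  obtain ⟨p, hp⟩ := exists_sub_mem R B hB k b
  have h1 : ψ (b - algebraMap R[X] B p) ∈ Ideal.span {(PowerSeries.X : PowerSeries R) ^ k} := by
    obtain ⟨c, hc⟩ := Ideal.mem_span_singleton.1 hp
    rw [hc, map_mul, map_pow, psi_X]
    exact Ideal.mem_span_singleton.2 (Dvd.intro _ rfl)
  have h2 : ψ (algebraMap R[X] B p) ∈ Ideal.span {(PowerSeries.X : PowerSeries R) ^ k} := by
    have := Ideal.sub_mem _ hb h1
    rwa [← map_sub, sub_sub_cancel] at this
  rw [AlgHom.commutes, Ideal.mem_span_singleton, PowerSeries.X_pow_dvd_iff] at h2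
  have h3 : X ^ k ∣ p := by
    rw [Polynomial.X_pow_dvd_iff]
    intro d hd
    have := h2 d hd
    change PowerSeries.coeff d (p : PowerSeries R) = 0 at this
    rwa [Polynomial.coeff_coe] at this
  have h4 : algebraMap R[X] B p ∈ Ideal.span {algebraMap R[X] B X ^ k} := by
    rw [Ideal.mem_span_singleton, ← map_pow]
    exact map_dvd _ h3
  have := Ideal.add_mem _ hp h4
  rwa [sub_add_cancel] at this

end K23.FGLaurentAlg
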