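import Groth.Agent.Sga2lef.H107.Punct
import Groth.Agent.EtpbcB.TorsVan
import Groth.Agent.Etbc.H233.Shift
import Groth.Agent.Etcore.PullJoint
import Groth.Agent.EtpbcA.RpushTors
import Groth.Agent.EtpbcA.ClosedPushExact
import Groth.Agent.Etcore.OpenClosed
import Groth.Agent.Etcore.Torsion
import Groth.Agent.Sga4h.EtaleRes
import Groth.Agent.Etcore.ShriekBasic
import Groth.Agent.EtpbcA.PullFLC

/-!
# Invariance of étale cohomology of torsion sheaves under "formal isomorphisms along a closed subset"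

`k : V ⟶ S` a quasi-compact open immersion, `f : X ⟶ S`, `k' : X' ⟶ X` the base change of `k`.
`PC f k`: for compatible strict localizations `Spec C ⟶ Spec A` of `f` at points outside `V`, the cohomology of
torsion sheaves on `V ×_S Spec A` and on `V ×_S Spec C` agree.

* `inv_push`: if also the cohomology of torsion sheaves on `V` and `X'` agree, then `Inv f (k_* I)` for torsion
  sheaves `I` on `V` with `R^q k_* I = 0`, `q > 0`.
* `inv`: if moreover `f` is an isomorphism over a closed subscheme with underlying set `S ∖ V` then `Inv f F` for all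
  torsion sheaves `F` on `S`.
-/

set_option autoImplicit false
set_option backward.isDefEq.respectTransparency.types false
universe u
open CategoryTheory CategoryTheory.Limits AlgebraicGeometry Opposite IsLocalRing

namespace K23.BCHens

open Groth.Agent.Etrest.StrictLoc Groth.Agent.Ega2.LACRB Groth.Agent.Ega2.LACLoc Groth.Agent.Sga1.UlaSL
  Groth.Agent.Sga1.UlaLoc Groth.Agent.Etcore.HpullCalc Groth.Agent.Sga2lef.H107.BCOpen Groth.Agent

/-- The local condition. -/
def PC {X S V : Scheme.{u}} (f : X ⟶ S) (k : V ⟶ S) : Prop :=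
  ∀ (A C : Type u) [CommRing A] [IsLocalRing A] [CommRing C] [IsLocalRing C]
    (σ : Spec (CommRingCat.of A) ⟶ S) (τ : Spec (CommRingCat.of C) ⟶ X) (β : A →+* C),
    IsStrictLoc σ → IsStrictLoc τ → IsLocalHom β → spm β ≫ σ = τ ≫ f → σ (closedPoint A) ∉ Set.range k →
    ∀ (G : EtCoh.Ab (pullback k σ)), EtCoh.IsTorsion G → Inv (pullback.fst (pullback.snd k σ) (spm β)) G

/-- Local homomorphisms of strictly henselian rings induce isomorphisms on cohomology. -/
theorem inv_spm {A C : Type u} [CommRing A] [HenselianLocalRing A] [IsSepClosed (ResidueField A)]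
    [CommRing C] [HenselianLocalRing C] [IsSepClosed (ResidueField C)] (φ : A →+* C) [IsLocalHom φ]
    (G : EtCoh.Ab (Spec (CommRingCat.of A))) : Inv (spm φ) G := fun q => invQ_spm φ G q

section

variable {X S V X' : Scheme.{u}} {f : X ⟶ S} {k : V ⟶ S} [IsOpenImmersion k]
  [QuasiCompact k] {I : EtCoh.Ab V} {k' : X' ⟶ X} {f' : X' ⟶ V}

theorem mem_range_of_isPullback (h : IsPullback k' f' f k) (x : X) (hx : f x ∈ Set.range k) :
    x ∈ Set.range k' := by
  obtain ⟨v, hv⟩ := hx
  obtain ⟨z, hz, -⟩ := Scheme.Pullback.exists_preimage_pullback (f := f) (g := k) x v hv.symm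
  refine ⟨h.isoPullback.inv z, ?_⟩
  rw [← Scheme.Hom.comp_apply, h.isoPullback_inv_fst, hz]

theorem rb_base (hv : ∀ q : ℕ, 0 < q → IsZero ((EtCoh.Rpush k q).obj I)) {A : Type u} [CommRing A]
    [IsLocalRing A] (σ : Spec (CommRingCat.of A) ⟶ S) (hσ : IsStrictLoc σ) :
    RB ((EtCoh.push k).obj I) (pullback.snd k σ) σ := fun q => rq_base k I q (hv q) σ hσ

theorem rb_top (hf : PC f k) (hI : EtCoh.IsTorsion I)
    (h : IsPullback k' f' f k) (hv : ∀ q : ℕ, 0 < q → IsZero ((EtCoh.Rpush k q).obj I))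
    {C : Type u} [CommRing C] [IsLocalRing C] (τ : Spec (CommRingCat.of C) ⟶ X) (hτ : IsStrictLoc τ) :
    RB ((EtCoh.pull f).obj ((EtCoh.push k).obj I)) (pullback.snd k' τ) τ := by
  have hk' : IsOpenImmersion k' := MorphismProperty.of_isPullback h.flip ‹IsOpenImmersion k›
  obtain ⟨A, _, _, σ, β, hσ, hβl, hβ⟩ := exists_over f hτ
  by_cases hp : σ (closedPoint A) ∈ Set.range k
  · have h1 : f (τ (closedPoint C)) = σ (closedPoint A) := by
      rw [← Scheme.Hom.comp_apply, ← hβ, Scheme.Hom.comp_apply, closedPoint_map]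
    have h2 := mem_range_of_isPullback h (τ (closedPoint C)) (h1 ▸ hp)
    have := Groth.Agent.Sga2lef.H107.Punct.isIso_snd_of_mem k' τ h2
    exact RB.of_isIso _ _ _
  have := hσ.henselian
  have := hσ.sepClosed
  have := hτ.henselian
  have := hτ.sepClosed
  have h0 : RB ((EtCoh.push k).obj I) (pullback.snd k σ) σ := rb_base hv σ hσ
  obtain ⟨e⟩ := nonempty_counitIso k I
  have hT : EtCoh.IsTorsion ((EtCoh.pull (pullback.snd k σ ≫ σ)).obj ((EtCoh.push k).obj I)) := by
    refine EtpbcA.RpushTors.isTorsion_of_iso' ?_ (Etcore.Torsion.isTorsion_pull (pullback.fst k σ) I hI)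
    exact (EtCoh.pull (pullback.fst k σ)).mapIso e.symm ≪≫ pullIso pullback.condition _
  have h1 : RB ((EtCoh.push k).obj I) (pullback.fst (pullback.snd k σ) (spm β))
      (pullback.snd k σ ≫ σ) := hf A C σ τ β hσ hτ hβl hβ hp _ hT
  have h2 : RB ((EtCoh.push k).obj I) (pullback.snd (pullback.snd k σ) (spm β) ≫ spm β) σ :=
    h1.comp h0 rfl _ pullback.condition
  have h3 : RB ((EtCoh.push k).obj I) (pullback.snd (pullback.snd k σ) (spm β)) (spm β ≫ σ) :=
    RB.of_comp_left (inv_spm β _) rfl _ rfl h2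
  rw [rb_pull_iff ((EtCoh.push k).obj I) f τ (τ ≫ f) rfl]
  have s1 : IsPullback (pullback.fst k' τ ≫ f') (pullback.snd k' τ) k (τ ≫ f) :=
    (IsPullback.of_hasPullback k' τ).paste_horiz h.flip
  have s2 : IsPullback (pullback.fst (pullback.snd k σ) (spm β) ≫ pullback.fst k σ)
      (pullback.snd (pullback.snd k σ) (spm β)) k (τ ≫ f) := by
    have := (IsPullback.of_hasPullback (pullback.snd k σ) (spm β)).paste_horiz
      (IsPullback.of_hasPullback k σ)
    rwa [hβ] at this
  let e' := s1.isoIsPullback _ _ s2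
  refine h3.of_square e'.hom (𝟙 _) ?_ ((Category.id_comp _).trans hβ)
  rw [Category.comp_id]
  exact (IsPullback.isoIsPullback_hom_snd _ _ s1 s2).symm

/-- `k'⁻¹` computes the cohomology of `f⁻¹ k_* I`. -/
theorem inv_top (hf : PC f k) (hI : EtCoh.IsTorsion I)
    (h : IsPullback k' f' f k) (hv : ∀ q : ℕ, 0 < q → IsZero ((EtCoh.Rpush k q).obj I)) :
    Inv k' ((EtCoh.pull f).obj ((EtCoh.push k).obj I)) := by
  have : IsOpenImmersion k' := MorphismProperty.of_isPullback h.flip ‹IsOpenImmersion k›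
  have : QuasiCompact k' := MorphismProperty.of_isPullback h.flip ‹QuasiCompact k›
  refine inv_of_locRB fun x => ?_
  obtain ⟨C, _, _, τ, hτ, hx⟩ := exists_isStrictLoc X x
  exact ⟨C, inferInstance, inferInstance, τ, hτ, hx, rb_top hf hI h hv τ hτ⟩

theorem inv_bot (hv : ∀ q : ℕ, 0 < q → IsZero ((EtCoh.Rpush k q).obj I)) :
    Inv k ((EtCoh.push k).obj I) := by
  refine inv_of_locRB fun x => ?_
  obtain ⟨C, _, _, τ, hτ, hx⟩ := exists_isStrictLoc S x
  exact ⟨C, inferInstance, inferInstance, τ, hτ, hx, rb_base hv τ hτ⟩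

/-- The case of direct images from the open subset. -/
theorem inv_push (hf : PC f k) (hI : EtCoh.IsTorsion I)
    (h : IsPullback k' f' f k) (hv : ∀ q : ℕ, 0 < q → IsZero ((EtCoh.Rpush k q).obj I))
    (hf' : ∀ G : EtCoh.Ab V, EtCoh.IsTorsion G → Inv f' G) :
    Inv f ((EtCoh.push k).obj I) := by
  obtain ⟨e⟩ := nonempty_counitIso k I
  have h1 : Inv f' ((EtCoh.pull k).obj ((EtCoh.push k).obj I)) :=
    hf' _ (EtpbcA.RpushTors.isTorsion_of_iso' e.symm hI)
  have h2 : Inv (f' ≫ k) ((EtCoh.push k).obj I) := h1.comp (inv_bot hv)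
  exact Inv.of_comp_right (inv_top hf hI h hv) (h2.congr h.w.symm)

end

section Closed

variable {X S Z Z' V V' : Scheme.{u}} {f : X ⟶ S} {k : V ⟶ S} [IsOpenImmersion k]
  {i : Z ⟶ S} [IsClosedImmersion i] {fZ : Z' ⟶ Z} {i' : Z' ⟶ X}

/-- Sheaves supported on the closed subscheme. -/
theorem inv_closed (hd : IsCompl (Set.range i) (Set.range k)) (G : EtCoh.Ab S)
    (hG : IsZero ((EtCoh.pull k).obj G)) : Inv i G := by
  have := Groth.Agent.Sga4h.EtaleRes.jCont k
  have := Groth.Agent.EtpbcA.ClosedPushExact.push_preservesFiniteColimits i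
  have hS := Etcore.OpenClosed.shortExact i k hd G
  have h1 : IsZero ((EtShriek.restrAlong k).obj G) :=
    hG.of_iso ((Etcore.ShriekBasic.pullIsoRestr k).symm.app G)
  have h2 : IsZero ((EtShriek.extZero k).obj ((EtShriek.restrAlong k).obj G)) :=
    (EtShriek.extZero k).map_isZero h1
  have hm : Mono ((EtCoh.pullPushAdj i).unit.app G) := by
    refine (ShortComplex.exact_iff_mono _ ?_).1 hS.exact
    exact h2.eq_of_src _ _
  have he : Epi ((EtCoh.pullPushAdj i).unit.app G) := hS.epi_g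
  have h3 : IsIso ((EtCoh.pullPushAdj i).unit.app G) := isIso_of_mono_of_epi _
  exact inv_of_acyc ⟨h3, fun q hq => EtpbcA.ClosedPushExact.isZero_Rpush i _ q hq⟩

theorem inv_supp (hd : IsCompl (Set.range i) (Set.range k)) (h : IsPullback i' fZ f i) [IsIso fZ]
    (G : EtCoh.Ab S) (hG : IsZero ((EtCoh.pull k).obj G)) : Inv f G := by
  have hi' : IsClosedImmersion i' := MorphismProperty.of_isPullback h.flip ‹IsClosedImmersion i›
  have h1 : Inv i G := inv_closed hd G hG
  have h2 : Inv (fZ ≫ i) G := (Inv.of_isIso fZ _).comp h1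
  have hd' : IsCompl (Set.range i') (Set.range (pullback.snd k f)) := by
    have e : Set.range i' = f ⁻¹' (Set.range i) := by
      ext x
      constructor
      · rintro ⟨z, rfl⟩
        exact ⟨fZ z, by rw [← Scheme.Hom.comp_apply, ← h.w, Scheme.Hom.comp_apply]⟩
      · rintro ⟨v, hv⟩
        obtain ⟨z, hz, -⟩ := Scheme.Pullback.exists_preimage_pullback (f := f) (g := i) x v hv.symm
        refine ⟨h.isoPullback.inv z, ?_⟩
        rw [← Scheme.Hom.comp_apply, h.isoPullback_inv_fst, hz]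
    rw [e, Scheme.Pullback.range_snd]
    refine ⟨?_, ?_⟩
    · rw [Set.disjoint_iff_inter_eq_empty, ← Set.preimage_inter,
        Set.disjoint_iff_inter_eq_empty.1 hd.disjoint]
      rfl
    · rw [codisjoint_iff_le_sup]
      intro x _
      have h : f x ∈ Set.range i ⊔ Set.range k := by rw [hd.sup_eq_top]; trivial
      exact h
  have hG' : IsZero ((EtCoh.pull (pullback.snd k f)).obj ((EtCoh.pull f).obj G)) :=
    ((EtCoh.pull (pullback.fst k f)).map_isZero hG).of_iso
      (pullIso (pullback.condition).symm G ≪≫ (pullIso rfl G).symm)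
  have h3 : Inv i' ((EtCoh.pull f).obj G) := inv_closed hd' _ hG'
  exact Inv.of_comp_right h3 (h2.congr h.w.symm)

end Closed

section Main

variable {X S Z Z' V X' : Scheme.{u}} {f : X ⟶ S} {k : V ⟶ S} [IsOpenImmersion k] [QuasiCompact k]
  {k' : X' ⟶ X} {f' : X' ⟶ V} {i : Z ⟶ S} [IsClosedImmersion i] {fZ : Z' ⟶ Z} {i' : Z' ⟶ X}

theorem mono_lift (hd : IsCompl (Set.range i) (Set.range k)) (F : EtCoh.Ab S) {I : EtCoh.Ab V}
    (m : (EtCoh.pull k).obj F ⟶ I) [Mono m] :
    Mono (biprod.lift ((EtCoh.pullPushAdj i).unit.app F)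
      ((EtCoh.pullPushAdj k).unit.app F ≫ (EtCoh.push k).map m)) := by
  have hcov : ∀ x : S, ∃ (b : Bool) (y : ((fun b : Bool => (cond b Z V : Scheme.{u})) b)),
      ((Bool.rec k i b : (cond b Z V : Scheme.{u}) ⟶ S)) y = x := by
    intro x
    have h : x ∈ Set.range i ⊔ Set.range k := by rw [hd.sup_eq_top]; trivial
    rcases h with ⟨z, hz⟩ | ⟨v, hv⟩
    · exact ⟨true, z, hz⟩
    · exact ⟨false, v, hv⟩
  refine Etcore.PullJoint.mono_of_pull (Y := fun b : Bool => (cond b Z V : Scheme.{u}))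
    (fun b : Bool => (Bool.rec k i b : (cond b Z V : Scheme.{u}) ⟶ S)) hcov _ ?_
  rintro (_ | _)
  · change Mono ((EtCoh.pull k).map _)
    have h1 : (EtCoh.pull k).map (biprod.lift ((EtCoh.pullPushAdj i).unit.app F)
      ((EtCoh.pullPushAdj k).unit.app F ≫ (EtCoh.push k).map m)) ≫ (EtCoh.pull k).map biprod.snd ≫
        (EtCoh.pullPushAdj k).counit.app I = m := by
      rw [← Category.assoc, ← Functor.map_comp, biprod.lift_snd, Functor.map_comp, Category.assoc]
      erw [(EtCoh.pullPushAdj k).counit_naturality m]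
      rw [← Category.assoc]
      erw [(EtCoh.pullPushAdj k).left_triangle_components F]
      exact Category.id_comp _
    have h2 : Mono ((EtCoh.pull k).map (biprod.lift ((EtCoh.pullPushAdj i).unit.app F)
      ((EtCoh.pullPushAdj k).unit.app F ≫ (EtCoh.push k).map m)) ≫ (EtCoh.pull k).map biprod.snd ≫
        (EtCoh.pullPushAdj k).counit.app I) := by
      rw [h1]; infer_instance
    exact mono_of_mono _ ((EtCoh.pull k).map biprod.snd ≫ (EtCoh.pullPushAdj k).counit.app I)
  · change Mono ((EtCoh.pull i).map _)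
    have h1 : (EtCoh.pull i).map (biprod.lift ((EtCoh.pullPushAdj i).unit.app F)
      ((EtCoh.pullPushAdj k).unit.app F ≫ (EtCoh.push k).map m)) ≫ (EtCoh.pull i).map biprod.fst =
        (EtCoh.pull i).map ((EtCoh.pullPushAdj i).unit.app F) := by
      rw [← Functor.map_comp, biprod.lift_fst]
    have h0 : Mono ((EtCoh.pull i).map ((EtCoh.pullPushAdj i).unit.app F)) := by
      have h3 : Mono ((EtCoh.pull i).map ((EtCoh.pullPushAdj i).unit.app F) ≫
          (EtCoh.pullPushAdj i).counit.app ((EtCoh.pull i).obj F)) := by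
        have h4 := (EtCoh.pullPushAdj i).left_triangle_components F
        have h5 : (EtCoh.pull i).map ((EtCoh.pullPushAdj i).unit.app F) ≫
          (EtCoh.pullPushAdj i).counit.app ((EtCoh.pull i).obj F) = 𝟙 _ := h4
        rw [h5]
        infer_instance
      exact mono_of_mono _ ((EtCoh.pullPushAdj i).counit.app ((EtCoh.pull i).obj F))
    have h2 : Mono ((EtCoh.pull i).map (biprod.lift ((EtCoh.pullPushAdj i).unit.app F)
      ((EtCoh.pullPushAdj k).unit.app F ≫ (EtCoh.push k).map m)) ≫ (EtCoh.pull i).map biprod.fst) := by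
      rw [h1]; infer_instance
    exact mono_of_mono _ ((EtCoh.pull i).map biprod.fst)

open Groth.Agent.Etcore.EtInst in
theorem HHmap_add {Y : Scheme.{u}} {F G : EtCoh.Ab Y} (a b : F ⟶ G) (n : ℕ) (x : HH Y F n) :
    HHmap (a + b) n x = HHmap a n x + HHmap b n x := by
  rw [HHmap_apply, HHmap_apply, HHmap_apply, Abelian.Ext.mk₀_add, Abelian.Ext.comp_add]

open Groth.Agent.Etcore.EtInst in
theorem inv_biprod {X S : Scheme.{u}} {f : X ⟶ S} {A B : EtCoh.Ab S} (hA : Inv f A) (hB : Inv f B) :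
    Inv f (A ⊞ B) := by
  intro q
  constructor
  · rw [injective_iff_map_eq_zero]
    intro x hx
    have h1 : HHmap (biprod.fst : A ⊞ B ⟶ A) q x = 0 :=
      (hA q).1 (by rw [hp_map, hx, map_zero, map_zero])
    have h2 : HHmap (biprod.snd : A ⊞ B ⟶ B) q x = 0 :=
      (hB q).1 (by rw [hp_map, hx, map_zero, map_zero])
    rw [← HHmap_id (A ⊞ B) q x, ← biprod.total, HHmap_add, HHmap_comp, HHmap_comp, h1, h2, map_zero,
      map_zero, add_zero]
  · intro y
    obtain ⟨a, ha⟩ := (hA q).2 (HHmap ((EtCoh.pull f).map (biprod.fst : A ⊞ B ⟶ A)) q y)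
    obtain ⟨b, hb⟩ := (hB q).2 (HHmap ((EtCoh.pull f).map (biprod.snd : A ⊞ B ⟶ B)) q y)
    refine ⟨HHmap (biprod.inl : A ⟶ A ⊞ B) q a + HHmap (biprod.inr : B ⟶ A ⊞ B) q b, ?_⟩
    rw [map_add, hp_map, hp_map, ha, hb, ← HHmap_comp, ← HHmap_comp, ← HHmap_add, ← Functor.map_comp,
      ← Functor.map_comp, ← Functor.map_add, biprod.total, CategoryTheory.Functor.map_id, HHmap_id]

theorem isTorsion_biprod {S : Scheme.{u}} {A B : EtCoh.Ab S} (hA : EtCoh.IsTorsion A)
    (hB : EtCoh.IsTorsion B) : EtCoh.IsTorsion (A ⊞ B) := by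
  rw [Etcore.Torsion.isTorsion_iff_stalk] at hA hB ⊢
  intro Ω _ _ ξ x
  obtain ⟨n, hn, h1⟩ := hA Ω ξ ((EtCoh.stalk ξ).map biprod.fst x)
  obtain ⟨m, hm, h2⟩ := hB Ω ξ ((EtCoh.stalk ξ).map biprod.snd x)
  refine ⟨n * m, Nat.mul_pos hn hm, ?_⟩
  have h3 : x = (EtCoh.stalk ξ).map biprod.inl ((EtCoh.stalk ξ).map biprod.fst x) +
      (EtCoh.stalk ξ).map biprod.inr ((EtCoh.stalk ξ).map biprod.snd x) := by
    have h4 := congrArg (fun t => (EtCoh.stalk ξ).map t x) (biprod.total (X := A) (Y := B))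
    simp only [Functor.map_add, Functor.map_comp, CategoryTheory.Functor.map_id] at h4
    exact h4.symm
  have h5 : (n * m) • (EtCoh.stalk ξ).map biprod.fst x = 0 := by
    rw [mul_comm, mul_smul, h1, smul_zero]
  have h6 : (n * m) • (EtCoh.stalk ξ).map biprod.snd x = 0 := by
    rw [mul_smul, h2, smul_zero]
  rw [h3, smul_add, ← map_nsmul ((EtCoh.stalk ξ).map (biprod.inl : A ⟶ A ⊞ B)).hom,
    ← map_nsmul ((EtCoh.stalk ξ).map (biprod.inr : B ⟶ A ⊞ B)).hom, h5, h6, map_zero, map_zero, add_zero]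

/-- **Theorem.** -/
theorem inv (hd : IsCompl (Set.range i) (Set.range k)) (h : IsPullback k' f' f k)
    (h' : IsPullback i' fZ f i) [IsIso fZ] (hf : PC f k)
    (hf' : ∀ G : EtCoh.Ab V, EtCoh.IsTorsion G → Inv f' G) (F : EtCoh.Ab S) (hF : EtCoh.IsTorsion F) :
    Inv f F := by
  have eff : ∀ F : EtCoh.Ab S, EtCoh.IsTorsion F → ∃ (J : EtCoh.Ab S) (m : F ⟶ J), Mono m ∧
      EtCoh.IsTorsion (cokernel m) ∧ Inv f J := by
    intro F hF
    obtain ⟨J, hJ, m, hm⟩ := EtpbcB.TorsEt.exists_mono_tors ((EtCoh.pull k).obj F)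
      (Etcore.Torsion.isTorsion_pull k F hF)
    have hJt := EtpbcB.TorsEt.isTorsion_tors J
    have hT : EtCoh.IsTorsion ((EtCoh.push i).obj ((EtCoh.pull i).obj F) ⊞
        (EtCoh.push k).obj (EtpbcB.TorsSub.tors J)) :=
      isTorsion_biprod (EtpbcA.RpushTors.isTorsion_push i _ (Etcore.Torsion.isTorsion_pull i F hF))
        (EtpbcA.RpushTors.isTorsion_push k _ hJt)
    refine ⟨_, biprod.lift ((EtCoh.pullPushAdj i).unit.app F)
      ((EtCoh.pullPushAdj k).unit.app F ≫ (EtCoh.push k).map m), mono_lift hd F m, ?_, ?_⟩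
    · rw [EtpbcB.TorsEtN.isTorsion_iff] at hT ⊢
      exact EtpbcB.TorsEtN.torsionN_of_epi (cokernel.π _) hT
    · refine inv_biprod (inv_supp hd h' _ ?_) (inv_push hf hJt h
        (EtpbcB.TorsVan.acyclic_push_tors k J) hf')
      have := Groth.Agent.Sga4h.EtaleRes.jCont k
      exact (Etcore.OpenClosed.isZero_restr_push i k hd.disjoint _).of_iso
        ((Etcore.ShriekBasic.pullIsoRestr k).app _)
  have key : ∀ n, Etbc.H233.Shift.Rng f ((EtCoh.pull (𝟙 S)).obj F) n := fun n =>
    Etbc.H233.Shift.Rng.shift f (𝟙 S) (fun F => EtCoh.IsTorsion F) n (fun F hF => by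
      obtain ⟨J, m, hm, hc, hJ⟩ := eff F hF
      have hJ' : Inv f ((EtCoh.pull (𝟙 S)).obj J) := hJ.of_iso ((EtpbcA.PullFLC.pullId _).app J).symm
      exact ⟨J, m, hm, hc, fun q _ => hJ' q, (hJ' (n + 1)).1⟩) F hF
  intro q
  exact bijective_hp_of_iso f ((EtpbcA.PullFLC.pullId _).app F) ((key q).1 q le_rfl)

end Main

end K23.BCHens
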