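import Groth.Agent.EtCoh.K23.ConvRing
import Mathlib.Order.Filter.AtTopBot.Prod

/-!
# The Cauchy sequence argument of Bouthier–Česnavičius

For a "functor" `H` on `B`-algebras which commutes with `ℕ`-indexed colimits of quotients and is invariant
under quotients by henselian ideals, `H(B) → H(B')` is bijective when `B → B'` is "an isomorphism on
completions" (`ConvRing.Dat`): `bijective_of_axioms`.
-/

set_option autoImplicit false

namespace K23.ConvMain

open K23.GabRoot K23.ConvRing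

universe u w

/-- Sequences. -/
def one : Shape where
  ι := ℕ
  κ := Unit
  l := fun _ => Filter.atTop
  neBot := fun _ => inferInstance
  inf := ()
  s := fun N => Set.Ici N
  anti := fun _ _ h => Set.Ici_subset_Ici.2 h
  basis := fun u hu => by
    obtain ⟨N, hN⟩ := Filter.mem_atTop_sets.1 hu
    exact ⟨N, fun x hx => hN x hx⟩
  mem_inf := fun N => Filter.Ici_mem_atTop N
  dec := fun _ N => Or.inl (Filter.Ici_mem_atTop N)

theorem mem_atTop_two {u : Set (ℕ × ℕ)} (hu : u ∈ (Filter.atTop : Filter (ℕ × ℕ))) :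
    ∃ N : ℕ, Set.Ici (N, N) ⊆ u := by
  obtain ⟨⟨a, b⟩, h⟩ := Filter.mem_atTop_sets.1 hu
  refine ⟨max a b, fun x hx => h x ?_⟩
  have h1 : ((max a b, max a b) : ℕ × ℕ) ≤ x := hx
  exact ⟨(le_max_left a b).trans h1.1, (le_max_right a b).trans h1.2⟩

theorem mem_row {m N : ℕ} :
    Set.Ici (N, N) ∈ Filter.map (fun n : ℕ => (m, n)) Filter.atTop ↔ N ≤ m := by
  constructor
  · intro h
    obtain ⟨n, hn⟩ := Filter.nonempty_of_mem (Filter.mem_map.1 h)
    exact hn.1
  · intro h
    rw [Filter.mem_map]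
    filter_upwards [Filter.Ici_mem_atTop N] with n hn
    exact ⟨h, hn⟩

/-- Double sequences with convergent rows. -/
def two : Shape where
  ι := ℕ × ℕ
  κ := Option ℕ
  l := fun c => match c with
    | none => Filter.atTop
    | some m => Filter.map (fun n : ℕ => (m, n)) Filter.atTop
  neBot := fun c => match c with
    | none => inferInstance
    | some m => inferInstance
  inf := none
  s := fun N => Set.Ici (N, N)
  anti := fun _ _ h => Set.Ici_subset_Ici.2 ⟨h, h⟩
  basis := fun _ hu => mem_atTop_two hu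
  mem_inf := fun N => Filter.Ici_mem_atTop (N, N)
  dec := fun c N => match c with
    | none => Or.inl (Filter.Ici_mem_atTop (N, N))
    | some m => by
      by_cases h : N ≤ m
      · exact Or.inl (mem_row.2 h)
      · refine Or.inr ?_
        change (Set.Ici (N, N))ᶜ ∈ Filter.map (fun n : ℕ => (m, n)) Filter.atTop
        rw [Filter.mem_map]
        refine Filter.univ_mem' fun n => ?_
        intro h1
        exact h h1.1

variable {B : Type u} [CommRing B] {B' : Type u} [CommRing B'] (D : Dat B) (D' : Dat B') (φ : B →+* B')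
variable (E : Shape)

/-- Constant families. -/
def const : B →+* S D' φ E where
  toFun x := ⟨(fun _ => x, fun _ => φ x), fun _ => Dat.Tends.const (φ x)⟩
  map_one' := by
    apply Subtype.ext
    simp only [map_one]
    rfl
  map_mul' x y := by
    apply Subtype.ext
    simp only [map_mul]
    rfl
  map_zero' := by
    apply Subtype.ext
    simp only [map_zero]
    rfl
  map_add' x y := by
    apply Subtype.ext
    simp only [map_add]
    rfl

variable {E} in
/-- Evaluation at an index. -/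
def ev (x : E.ι) : S D' φ E →+* B where
  toFun p := p.1.1 x
  map_one' := rfl
  map_mul' _ _ := rfl
  map_zero' := rfl
  map_add' _ _ := rfl

/-- The row `m`. -/
def row (m : ℕ) : S D' φ two →+* S D' φ one where
  toFun p := ⟨(fun n => p.1.1 (m, n), fun _ => p.1.2 (some m)), fun _ => p.2 (some m)⟩
  map_one' := rfl
  map_mul' _ _ := rfl
  map_zero' := rfl
  map_add' _ _ := rfl

/-- `(b_m)_{m, n}`. -/
def p₁ : S D' φ one →+* S D' φ two where
  toFun p := ⟨(fun x => p.1.1 x.1, fun c => match c with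
      | none => p.1.2 ()
      | some m => φ (p.1.1 m)), fun c => match c with
      | none => fun k => by
        have h := (p.2 : p.1 ∈ S D' φ one) () k
        obtain ⟨N, hN⟩ := Filter.mem_atTop_sets.1 h
        exact Filter.mem_atTop_sets.2 ⟨(N, N), fun x hx => hN x.1 hx.1⟩
      | some m => fun k => by
        refine Filter.eventually_map.2 (Filter.Eventually.of_forall fun n => ?_)
        change φ (p.1.1 m) - φ (p.1.1 m) ∈ D'.F k
        rw [sub_self]
        exact (D'.F k).zero_mem⟩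
  map_one' := by
    apply Subtype.ext
    refine Prod.ext rfl ?_
    funext c
    cases c with
    | none => rfl
    | some m => exact map_one φ
  map_mul' p q := by
    apply Subtype.ext
    refine Prod.ext rfl ?_
    funext c
    cases c with
    | none => rfl
    | some m => exact map_mul φ _ _
  map_zero' := by
    apply Subtype.ext
    refine Prod.ext rfl ?_
    funext c
    cases c with
    | none => rfl
    | some m => exact map_zero φ
  map_add' p q := by
    apply Subtype.ext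
    refine Prod.ext rfl ?_
    funext c
    cases c with
    | none => rfl
    | some m => exact map_add φ _ _

/-- `(b_n)_{m, n}`. -/
def p₂ : S D' φ one →+* S D' φ two where
  toFun p := ⟨(fun x => p.1.1 x.2, fun _ => p.1.2 ()), fun c => match c with
      | none => fun k => by
        have h := (p.2 : p.1 ∈ S D' φ one) () k
        obtain ⟨N, hN⟩ := Filter.mem_atTop_sets.1 h
        exact Filter.mem_atTop_sets.2 ⟨(N, N), fun x hx => hN x.2 hx.2⟩
      | some m => fun k => (p.2 : p.1 ∈ S D' φ one) () k⟩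
  map_one' := rfl
  map_mul' _ _ := rfl
  map_zero' := rfl
  map_add' _ _ := rfl

theorem row_p₂ (m : ℕ) (p : S D' φ one) : row D' φ m (p₂ D' φ p) = p := by
  apply Subtype.ext
  refine Prod.ext rfl ?_
  funext c
  rfl

theorem row_p₁ (m : ℕ) (p : S D' φ one) : row D' φ m (p₁ D' φ p) = const D' φ one (ev D' φ (E := one) m p) := by
  apply Subtype.ext
  refine Prod.ext rfl ?_
  funext c
  rfl

theorem ev_const (x : E.ι) (b : B) : ev D' φ x (const D' φ E b) = b := rfl

theorem lim_const (b : B) : lim D' φ E (const D' φ E b) = φ b := rfl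

theorem lim_p₁ (p : S D' φ one) : lim D' φ two (p₁ D' φ p) = lim D' φ one p := rfl

theorem lim_p₂ (p : S D' φ one) : lim D' φ two (p₂ D' φ p) = lim D' φ one p := rfl

theorem ev_mem_K {x : E.ι} {N : ℕ} (hx : x ∈ E.s N) : K D' φ N ≤ RingHom.ker (ev D' φ x) :=
  fun _ hp => hp.1 x hx

theorem row_mem_K (m : ℕ) : K D' φ (E := two) m ≤ (K D' φ (E := one) m).comap (row D' φ m) := by
  intro p hp
  refine ⟨fun n hn => hp.1 (m, n) ⟨le_refl _, hn⟩, fun _ _ => hp.2 (some m) (mem_row.2 le_rfl)⟩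

theorem p₁_mem_K (N : ℕ) : K D' φ (E := one) N ≤ (K D' φ (E := two) N).comap (p₁ D' φ) := by
  intro p hp
  refine ⟨fun x hx => hp.1 x.1 hx.1, fun c hc => ?_⟩
  cases c with
  | none => exact hp.2 () (Filter.Ici_mem_atTop N)
  | some m =>
    have h1 : p.1.1 m = 0 := hp.1 m (mem_row.1 hc)
    change φ (p.1.1 m) = 0
    rw [h1, map_zero]

theorem p₂_mem_K (N : ℕ) : K D' φ (E := one) N ≤ (K D' φ (E := two) N).comap (p₂ D' φ) := by
  intro p hp
  exact ⟨fun x hx => hp.1 x.2 hx.2, fun _ _ => hp.2 () (Filter.Ici_mem_atTop N)⟩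

theorem surjective_lim_one (hdens : ∀ (y : B') (k : ℕ), ∃ b : B, φ b - y ∈ D'.F k) :
    Function.Surjective (lim D' φ one) := by
  intro y
  choose b hb using hdens y
  refine ⟨⟨(b, fun _ => y), fun _ k => ?_⟩, rfl⟩
  change ∀ᶠ n in Filter.atTop, φ (b n) - y ∈ D'.F k
  filter_upwards [Filter.Ici_mem_atTop k] with n hn
  exact Dat.F_le hn (hb n)

theorem surjective_lim_two (hdens : ∀ (y : B') (k : ℕ), ∃ b : B, φ b - y ∈ D'.F k) :
    Function.Surjective (lim D' φ two) := by
  intro y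
  obtain ⟨p, rfl⟩ := surjective_lim_one D' φ hdens y
  exact ⟨p₂ D' φ p, rfl⟩

/-- The limit on families up to eventual equality. -/
def limQ : S D' φ E ⧸ Kinf D' φ →+* B' := Ideal.Quotient.lift _ (lim D' φ E) (Kinf_le_ker D' φ)

theorem limQ_mk (p : S D' φ E) : limQ D' φ E (Ideal.Quotient.mk _ p) = lim D' φ E p := rfl

theorem ker_limQ : RingHom.ker (limQ D' φ E) =
    (RingHom.ker (lim D' φ E)).map (Ideal.Quotient.mk (Kinf D' φ)) := by
  ext x
  obtain ⟨x, rfl⟩ := Ideal.Quotient.mk_surjective x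
  rw [Ideal.mem_map_iff_of_surjective _ Ideal.Quotient.mk_surjective, RingHom.mem_ker, limQ_mk]
  constructor
  · intro h
    exact ⟨x, h, rfl⟩
  · rintro ⟨y, hy, hxy⟩
    rw [← limQ_mk, ← hxy, limQ_mk]
    exact hy

/-- A "functor" on `B`-algebras. -/
structure Fun (B : Type u) [CommRing B] where
  /-- the value at a `B`-algebra -/
  obj : ∀ {C : Type u} [CommRing C], (B →+* C) → Type w
  /-- the maps -/
  map : ∀ {C C' : Type u} [CommRing C] [CommRing C'] {ψ : B →+* C} {ψ' : B →+* C'} (χ : C →+* C'),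
    χ.comp ψ = ψ' → obj ψ → obj ψ'
  map_id : ∀ {C : Type u} [CommRing C] {ψ : B →+* C} (h : (RingHom.id C).comp ψ = ψ) (x : obj ψ),
    map (RingHom.id C) h x = x
  map_map : ∀ {C C' C'' : Type u} [CommRing C] [CommRing C'] [CommRing C''] {ψ : B →+* C}
    {ψ' : B →+* C'} {ψ'' : B →+* C''} (χ : C →+* C') (h : χ.comp ψ = ψ') (χ' : C' →+* C'')
    (h' : χ'.comp ψ' = ψ'') (χ'' : C →+* C'') (h'' : χ''.comp ψ = ψ'') (_ : χ'.comp χ = χ'') (x : obj ψ),
    map χ' h' (map χ h x) = map χ'' h'' x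

variable (H : Fun.{u, w} B)

/-- `H` commutes with sequential colimits of quotients. -/
def LimProp : Prop := ∀ {C : Type u} [CommRing C] (ψ : B →+* C) (K : ℕ → Ideal C) (_ : Monotone K)
      (Ki : Ideal C) (_ : ∀ x, x ∈ Ki ↔ ∃ N, x ∈ K N) (q : ∀ N, C ⧸ K N →+* C ⧸ Ki)
      (_ : ∀ N, (q N).comp (Ideal.Quotient.mk (K N)) = Ideal.Quotient.mk Ki)
      (hq' : ∀ N, (q N).comp ((Ideal.Quotient.mk (K N)).comp ψ) = (Ideal.Quotient.mk Ki).comp ψ),
      (∀ x : H.obj ((Ideal.Quotient.mk Ki).comp ψ), ∃ (N : ℕ)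
        (y : H.obj ((Ideal.Quotient.mk (K N)).comp ψ)), H.map (q N) (hq' N) y = x) ∧
      (∀ (N : ℕ) (y z : H.obj ((Ideal.Quotient.mk (K N)).comp ψ)),
        H.map (q N) (hq' N) y = H.map (q N) (hq' N) z → ∃ (M : ℕ) (_ : N ≤ M)
          (r : C ⧸ K N →+* C ⧸ K M) (_ : r.comp (Ideal.Quotient.mk (K N)) = Ideal.Quotient.mk (K M))
          (hr : r.comp ((Ideal.Quotient.mk (K N)).comp ψ) = (Ideal.Quotient.mk (K M)).comp ψ),
          H.map r hr y = H.map r hr z)

/-- `H` is invariant under quotients by henselian ideals. -/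
def HensProp : Prop := ∀ {C C' : Type u} [CommRing C] [CommRing C'] (ψ : B →+* C) (ψ' : B →+* C')
      (χ : C →+* C') (h : χ.comp ψ = ψ'), Function.Surjective χ → HenselianRing C (RingHom.ker χ) →
      Function.Bijective (H.map χ h)

section Setup

variable (hR : ∀ x ∈ D.R, φ x ∈ D'.R) (ht : φ D.t = D'.t)
    (hF : ∀ k x, φ x ∈ D'.F k → x ∈ D.F k) (hdens : ∀ (y : B') (k : ℕ), ∃ b : B, φ b - y ∈ D'.F k)

include hR ht hF hdens in
theorem hens_one (hH : HensProp H) (h : (limQ D' φ one).comp ((Ideal.Quotient.mk (Kinf D' φ)).comp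
    (const D' φ one)) = φ) : Function.Bijective (H.map (limQ D' φ one) h) := by
  refine hH _ _ _ _ ?_ ?_
  · intro y
    obtain ⟨p, hp⟩ := surjective_lim_one D' φ hdens y
    exact ⟨Ideal.Quotient.mk _ p, hp⟩
  · rw [ker_limQ]
    exact henselian D D' φ hR ht hF

include hR ht hF hdens in
theorem hens_two (hH : HensProp H) (h : (limQ D' φ two).comp ((Ideal.Quotient.mk (Kinf D' φ)).comp
    (const D' φ two)) = φ) : Function.Bijective (H.map (limQ D' φ two) h) := by
  refine hH _ _ _ _ ?_ ?_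
  · intro y
    obtain ⟨p, hp⟩ := surjective_lim_two D' φ hdens y
    exact ⟨Ideal.Quotient.mk _ p, hp⟩
  · rw [ker_limQ]
    exact henselian D D' φ hR ht hF

end Setup

/-- The stage `N`. -/
abbrev cN (N : ℕ) : B →+* S D' φ E ⧸ K D' φ (E := E) N := (Ideal.Quotient.mk _).comp (const D' φ E)

/-- The colimit. -/
abbrev cI : B →+* S D' φ E ⧸ Kinf D' φ (E := E) := (Ideal.Quotient.mk _).comp (const D' φ E)

theorem K_le_Kinf (N : ℕ) : K D' φ (E := E) N ≤ Kinf D' φ := fun _ hp => ⟨N, hp⟩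

/-- From stage `N` to the colimit. -/
def toI (N : ℕ) : S D' φ E ⧸ K D' φ (E := E) N →+* S D' φ E ⧸ Kinf D' φ (E := E) :=
  Ideal.Quotient.factor (K_le_Kinf D' φ E N)

theorem toI_mk (N : ℕ) (p : S D' φ E) : toI D' φ E N (Ideal.Quotient.mk _ p) = Ideal.Quotient.mk _ p := rfl

/-- evaluation at `M` on stage `N ≤ M`. -/
def evQ {N M : ℕ} (h : N ≤ M) : S D' φ one ⧸ K D' φ (E := one) N →+* B :=
  Ideal.Quotient.lift _ (ev D' φ (E := one) M) (fun _ hp => ev_mem_K D' φ one (x := M) h hp)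

/-- `p₁` on stage `N`. -/
def P₁ (N : ℕ) : S D' φ one ⧸ K D' φ (E := one) N →+* S D' φ two ⧸ K D' φ (E := two) N :=
  Ideal.quotientMap _ (p₁ D' φ) (p₁_mem_K D' φ N)

/-- `p₂` on stage `N`. -/
def P₂ (N : ℕ) : S D' φ one ⧸ K D' φ (E := one) N →+* S D' φ two ⧸ K D' φ (E := two) N :=
  Ideal.quotientMap _ (p₂ D' φ) (p₂_mem_K D' φ N)

/-- the row `M` on stage `M`. -/
def rowQ (M : ℕ) : S D' φ two ⧸ K D' φ (E := two) M →+* S D' φ one ⧸ K D' φ (E := one) M :=
  Ideal.quotientMap _ (row D' φ M) (row_mem_K D' φ M)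

theorem lim_toI_c (N : ℕ) : ((limQ D' φ E).comp (toI D' φ E N)).comp (cN D' φ E N) = φ :=
  RingHom.ext fun _ => rfl

theorem toI_c (N : ℕ) : (toI D' φ E N).comp (cN D' φ E N) = cI D' φ E := RingHom.ext fun _ => rfl

theorem lim_c : (limQ D' φ E).comp (cI D' φ E) = φ := RingHom.ext fun _ => rfl

theorem p₁_const (b : B) : p₁ D' φ (const D' φ one b) = const D' φ two b := by
  apply Subtype.ext
  refine Prod.ext rfl ?_
  funext c
  cases c <;> rfl

theorem P₁_c (N : ℕ) : (P₁ D' φ N).comp (cN D' φ one N) = cN D' φ two N := by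
  apply RingHom.ext
  intro b
  change Ideal.Quotient.mk _ (p₁ D' φ (const D' φ one b)) = Ideal.Quotient.mk _ (const D' φ two b)
  rw [p₁_const]

theorem P₂_c (N : ℕ) : (P₂ D' φ N).comp (cN D' φ one N) = cN D' φ two N := RingHom.ext fun _ => rfl

theorem evQ_c {N M : ℕ} (h : N ≤ M) : (evQ D' φ h).comp (cN D' φ one N) = RingHom.id B :=
  RingHom.ext fun _ => rfl

theorem rowQ_c (M : ℕ) : (rowQ D' φ M).comp (cN D' φ two M) = cN D' φ one M := RingHom.ext fun _ => rfl

theorem lim_P₁ (N : ℕ) : ((limQ D' φ two).comp (toI D' φ two N)).comp (P₁ D' φ N) =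
    (limQ D' φ one).comp (toI D' φ one N) := by
  apply RingHom.ext
  intro z
  obtain ⟨z, rfl⟩ := Ideal.Quotient.mk_surjective z
  rfl

theorem lim_P₂ (N : ℕ) : ((limQ D' φ two).comp (toI D' φ two N)).comp (P₂ D' φ N) =
    (limQ D' φ one).comp (toI D' φ one N) := by
  apply RingHom.ext
  intro z
  obtain ⟨z, rfl⟩ := Ideal.Quotient.mk_surjective z
  rfl

theorem row_P₁ {N M : ℕ} (h : N ≤ M) (r : S D' φ two ⧸ K D' φ (E := two) N →+* S D' φ two ⧸ K D' φ (E := two) M)
    (hr : r.comp (Ideal.Quotient.mk (K D' φ (E := two) N)) = Ideal.Quotient.mk (K D' φ (E := two) M)) :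
    ((limQ D' φ one).comp (toI D' φ one M)).comp ((rowQ D' φ M).comp (r.comp (P₁ D' φ N))) =
      φ.comp (evQ D' φ h) := by
  apply RingHom.ext
  intro z
  obtain ⟨z, rfl⟩ := Ideal.Quotient.mk_surjective z
  have h4 : r (P₁ D' φ N (Ideal.Quotient.mk _ z)) = Ideal.Quotient.mk _ (p₁ D' φ z) :=
    RingHom.congr_fun hr (p₁ D' φ z)
  change limQ D' φ one (toI D' φ one M (rowQ D' φ M (r (P₁ D' φ N (Ideal.Quotient.mk _ z))))) = _
  rw [h4]
  rfl

theorem row_P₂ {N M : ℕ} (r : S D' φ two ⧸ K D' φ (E := two) N →+* S D' φ two ⧸ K D' φ (E := two) M)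
    (hr : r.comp (Ideal.Quotient.mk (K D' φ (E := two) N)) = Ideal.Quotient.mk (K D' φ (E := two) M)) :
    ((limQ D' φ one).comp (toI D' φ one M)).comp ((rowQ D' φ M).comp (r.comp (P₂ D' φ N))) =
      (limQ D' φ one).comp (toI D' φ one N) := by
  apply RingHom.ext
  intro z
  obtain ⟨z, rfl⟩ := Ideal.Quotient.mk_surjective z
  have h4 : r (P₂ D' φ N (Ideal.Quotient.mk _ z)) = Ideal.Quotient.mk _ (p₂ D' φ z) :=
    RingHom.congr_fun hr (p₂ D' φ z)
  change limQ D' φ one (toI D' φ one M (rowQ D' φ M (r (P₂ D' φ N (Ideal.Quotient.mk _ z))))) = _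
  rw [h4]
  rfl

section Main

variable (hR : ∀ x ∈ D.R, φ x ∈ D'.R) (ht : φ D.t = D'.t)
    (hF : ∀ k x, φ x ∈ D'.F k → x ∈ D.F k) (hdens : ∀ (y : B') (k : ℕ), ∃ b : B, φ b - y ∈ D'.F k)
    (hL : LimProp H) (hH : HensProp H)

include hR ht hF hdens hL hH in
theorem injective : Function.Injective (H.map (ψ := RingHom.id B) φ (RingHom.comp_id φ)) := by
  intro x y hxy
  obtain ⟨-, L1i⟩ := hL (const D' φ one) (K D' φ) (K_mono D' φ) (Kinf D' φ) (fun _ => Iff.rfl)
    (fun N => toI D' φ one N) (fun N => RingHom.ext fun _ => rfl) (fun N => toI_c D' φ one N)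
  have hc0 : (cN D' φ one 0).comp (RingHom.id B) = cN D' φ one 0 := RingHom.comp_id _
  have e : ∀ z : H.obj (RingHom.id B), H.map (limQ D' φ one) (lim_c D' φ one)
      (H.map (toI D' φ one 0) (toI_c D' φ one 0) (H.map (cN D' φ one 0) hc0 z)) =
      H.map (ψ := RingHom.id B) φ (RingHom.comp_id φ) z := by
    intro z
    rw [H.map_map (toI D' φ one 0) (toI_c D' φ one 0) (limQ D' φ one) (lim_c D' φ one)
      ((limQ D' φ one).comp (toI D' φ one 0)) (lim_toI_c D' φ one 0) rfl]
    exact H.map_map _ _ _ _ _ _ (lim_toI_c D' φ one 0) z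
  have h1 : H.map (toI D' φ one 0) (toI_c D' φ one 0) (H.map (cN D' φ one 0) hc0 x) =
      H.map (toI D' φ one 0) (toI_c D' φ one 0) (H.map (cN D' φ one 0) hc0 y) := by
    apply (hens_one D D' φ H hR ht hF hdens hH (lim_c D' φ one)).1
    rw [e, e, hxy]
  obtain ⟨M, hM, r, hr, hr', h2⟩ := L1i 0 _ _ h1
  have h3 := congrArg (H.map (evQ D' φ (le_refl M)) (evQ_c D' φ (le_refl M))) h2
  have hev : ((evQ D' φ (le_refl M)).comp r).comp (cN D' φ one 0) = RingHom.id B := by
    rw [RingHom.comp_assoc, hr', evQ_c]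
  have key' : ∀ z : H.obj (RingHom.id B), H.map (evQ D' φ (le_refl M)) (evQ_c D' φ (le_refl M))
      (H.map r hr' (H.map (cN D' φ one 0) hc0 z)) = z := by
    intro z
    rw [H.map_map r hr' _ _ ((evQ D' φ (le_refl M)).comp r) hev rfl,
      H.map_map (cN D' φ one 0) hc0 _ _ (RingHom.id B) (RingHom.comp_id _) hev]
    exact H.map_id _ z
  exact (key' x).symm.trans (h3.trans (key' y))

include hR ht hF hdens hL hH in
theorem surjective : Function.Surjective (H.map (ψ := RingHom.id B) φ (RingHom.comp_id φ)) := by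
  obtain ⟨L1s, -⟩ := hL (const D' φ one) (K D' φ) (K_mono D' φ) (Kinf D' φ) (fun _ => Iff.rfl)
    (fun N => toI D' φ one N) (fun N => RingHom.ext fun _ => rfl) (fun N => toI_c D' φ one N)
  obtain ⟨-, L2i⟩ := hL (const D' φ two) (K D' φ) (K_mono D' φ) (Kinf D' φ) (fun _ => Iff.rfl)
    (fun N => toI D' φ two N) (fun N => RingHom.ext fun _ => rfl) (fun N => toI_c D' φ two N)
  intro β
  obtain ⟨γ, rfl⟩ := (hens_one D D' φ H hR ht hF hdens hH (lim_c D' φ one)).2 β
  obtain ⟨N, γN, rfl⟩ := L1s γ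
  have hP1 : (((limQ D' φ two).comp (toI D' φ two N)).comp (P₁ D' φ N)).comp (cN D' φ one N) = φ := by
    rw [lim_P₁, lim_toI_c]
  have hP2 : (((limQ D' φ two).comp (toI D' φ two N)).comp (P₂ D' φ N)).comp (cN D' φ one N) = φ := by
    rw [lim_P₂, lim_toI_c]
  have h1 : H.map (toI D' φ two N) (toI_c D' φ two N) (H.map (P₁ D' φ N) (P₁_c D' φ N) γN) =
      H.map (toI D' φ two N) (toI_c D' φ two N) (H.map (P₂ D' φ N) (P₂_c D' φ N) γN) := by
    apply (hens_two D D' φ H hR ht hF hdens hH (lim_c D' φ two)).1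
    rw [H.map_map (toI D' φ two N) (toI_c D' φ two N) (limQ D' φ two) (lim_c D' φ two) _
      (lim_toI_c D' φ two N) rfl, H.map_map (toI D' φ two N) (toI_c D' φ two N) (limQ D' φ two)
      (lim_c D' φ two) _ (lim_toI_c D' φ two N) rfl,
      H.map_map (P₁ D' φ N) (P₁_c D' φ N) _ (lim_toI_c D' φ two N) _ (lim_toI_c D' φ one N)
      (lim_P₁ D' φ N), H.map_map (P₂ D' φ N) (P₂_c D' φ N) _ (lim_toI_c D' φ two N) _
      (lim_toI_c D' φ one N) (lim_P₂ D' φ N)]
  obtain ⟨M, hM, r, hr, hr', h2⟩ := L2i N _ _ h1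
  have hrow : ((limQ D' φ one).comp (toI D' φ one M)).comp (cN D' φ one M) = φ := lim_toI_c D' φ one M
  have hG : (((limQ D' φ one).comp (toI D' φ one M)).comp (rowQ D' φ M)).comp (cN D' φ two M) = φ := by
    rw [RingHom.comp_assoc, rowQ_c, hrow]
  have hGr : ((((limQ D' φ one).comp (toI D' φ one M)).comp (rowQ D' φ M)).comp r).comp
      (cN D' φ two N) = φ := by
    rw [RingHom.comp_assoc, hr', hG]
  -- the map `G : H(two, M) → H(B')`
  have h3 := congrArg (H.map (((limQ D' φ one).comp (toI D' φ one M)).comp (rowQ D' φ M)) hG) h2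
  rw [H.map_map r hr' _ hG _ hGr rfl, H.map_map r hr' _ hG _ hGr rfl] at h3
  have hφe : (φ.comp (evQ D' φ hM)).comp (cN D' φ one N) = φ := RingHom.ext fun _ => rfl
  have k1 : H.map ((((limQ D' φ one).comp (toI D' φ one M)).comp (rowQ D' φ M)).comp r) hGr
      (H.map (P₁ D' φ N) (P₁_c D' φ N) γN) =
      H.map (ψ := RingHom.id B) φ (RingHom.comp_id φ) (H.map (evQ D' φ hM) (evQ_c D' φ hM) γN) := by
    rw [H.map_map (evQ D' φ hM) (evQ_c D' φ hM) φ (RingHom.comp_id φ) _ hφe rfl]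
    exact H.map_map (P₁ D' φ N) (P₁_c D' φ N) _ hGr _ hφe
      (by rw [RingHom.comp_assoc, RingHom.comp_assoc]; exact row_P₁ D' φ hM r hr) γN
  have k2 : H.map ((((limQ D' φ one).comp (toI D' φ one M)).comp (rowQ D' φ M)).comp r) hGr
      (H.map (P₂ D' φ N) (P₂_c D' φ N) γN) =
      H.map (limQ D' φ one) (lim_c D' φ one) (H.map (toI D' φ one N) (toI_c D' φ one N) γN) := by
    rw [H.map_map (toI D' φ one N) (toI_c D' φ one N) (limQ D' φ one) (lim_c D' φ one) _
      (lim_toI_c D' φ one N) rfl]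
    exact H.map_map (P₂ D' φ N) (P₂_c D' φ N) _ hGr _ (lim_toI_c D' φ one N)
      (by rw [RingHom.comp_assoc, RingHom.comp_assoc]; exact row_P₂ D' φ r hr) γN
  exact ⟨H.map (evQ D' φ hM) (evQ_c D' φ hM) γN, k1.symm.trans (h3.trans k2)⟩

include hR ht hF hdens hL hH in
/-- **Main theorem** (abstract form). -/
theorem bijective : Function.Bijective (H.map (ψ := RingHom.id B) φ (RingHom.comp_id φ)) :=
  ⟨injective D D' φ H hR ht hF hdens hL hH, surjective D D' φ H hR ht hF hdens hL hH⟩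

end Main

end K23.ConvMain
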