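import Groth.Agent.EtCoh.K23.GabRoot
import Mathlib.Order.Filter.AtTopBot.Basic

/-!
# Rings of convergent families

`Dat B` : a subring `R` of `B` and `t ∈ R` with `(R, tR)` henselian and `B = R[1/t]`; the subgroups
`F k = t ^ k R` define a topology on `B`.  For `φ : B → B'` (with `Dat`s) and a `Shape` (index type with
finitely/infinitely many filters) we define the ring `S` of families in `B` converging, with their limits
in `B'`, and show that (families up to eventual equality, null families) is a henselian pair.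
-/

set_option autoImplicit false

namespace K23.ConvRing

open K23.GabRoot

universe u v

/-- A subring `R ⊆ B` with `t ∈ R`, `(R, tR)` henselian, and every element of `B` is carried into `R` by a
power of `t`. -/
structure Dat (B : Type u) [CommRing B] where
  /-- the subring -/
  R : Subring B
  /-- the element -/
  t : R
  hens : HenselianRing R (Ideal.span {t})
  abs : ∀ x : B, ∃ l : ℕ, (t : B) ^ l * x ∈ R

namespace Dat

variable {B : Type u} [CommRing B] (D : Dat B)

/-- The subgroup `t ^ k R`. -/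
def F (k : ℕ) : AddSubgroup B := (D.R.toAddSubgroup).map (AddMonoidHom.mulLeft ((D.t : B) ^ k))

variable {D}

theorem mem_F {k : ℕ} {x : B} : x ∈ D.F k ↔ ∃ r ∈ D.R, (D.t : B) ^ k * r = x := Iff.rfl

theorem mem_F_zero {x : B} : x ∈ D.F 0 ↔ x ∈ D.R := by
  rw [mem_F]
  simp

theorem F_mul {k l : ℕ} {x y : B} (hx : x ∈ D.F k) (hy : y ∈ D.F l) : x * y ∈ D.F (k + l) := by
  obtain ⟨r, hr, rfl⟩ := hx
  obtain ⟨s, hs, rfl⟩ := hy
  refine ⟨r * s, D.R.mul_mem hr hs, ?_⟩
  simp only [AddMonoidHom.coe_mulLeft]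
  ring

theorem F_le {k l : ℕ} (h : k ≤ l) : D.F l ≤ D.F k := by
  rintro _ ⟨r, hr, rfl⟩
  refine ⟨(D.t : B) ^ (l - k) * r, D.R.mul_mem (D.R.pow_mem D.t.2 _) hr, ?_⟩
  simp only [AddMonoidHom.coe_mulLeft]
  rw [← mul_assoc, ← pow_add, Nat.add_sub_cancel' h]

theorem exists_mul_mem (x : B) (k : ℕ) : ∃ l : ℕ, ∀ y ∈ D.F l, x * y ∈ D.F k := by
  obtain ⟨l, hl⟩ := D.abs x
  refine ⟨k + l, ?_⟩
  rintro _ ⟨r, hr, rfl⟩
  refine ⟨(D.t : B) ^ l * x * r, D.R.mul_mem hl hr, ?_⟩
  simp only [AddMonoidHom.coe_mulLeft]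
  ring

/-- elements of the ideal `t ^ k R` of `R`. -/
theorem mem_span_pow_iff {k : ℕ} (x : D.R) : x ∈ Ideal.span {D.t ^ k} ↔ (x : B) ∈ D.F k := by
  rw [Ideal.mem_span_singleton', mem_F]
  constructor
  · rintro ⟨a, rfl⟩
    exact ⟨a, a.2, by push_cast; ring⟩
  · rintro ⟨r, hr, h⟩
    refine ⟨⟨r, hr⟩, Subtype.ext ?_⟩
    rw [← h]
    push_cast
    ring

theorem mem_span_iff (x : D.R) : x ∈ Ideal.span {D.t} ↔ (x : B) ∈ D.F 1 := by
  rw [← mem_span_pow_iff, pow_one]

theorem mem_R_of_mem_F {k : ℕ} {x : B} (h : x ∈ D.F k) : x ∈ D.R :=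
  mem_F_zero.1 (F_le (Nat.zero_le k) h)

theorem jac : Ideal.span {D.t} ≤ Ideal.jacobson (⊥ : Ideal D.R) :=
  have := D.hens
  HenselianRing.jac

/-- `1 + F 1` consists of units. -/
theorem exists_inv {z : B} (hz : z ∈ D.F 1) : ∃ w : B, w ∈ D.R ∧ (1 + z) * w = 1 := by
  have hz' : (⟨z, mem_R_of_mem_F hz⟩ : D.R) ∈ Ideal.span {D.t} := (mem_span_iff _).2 hz
  have h1 := Ideal.mem_jacobson_bot.1 (D.jac hz') 1
  rw [mul_one] at h1
  obtain ⟨w, hw⟩ := h1.exists_right_inv
  refine ⟨w, w.2, ?_⟩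
  have := congrArg (Subtype.val) hw
  push_cast at this
  rw [add_comm]
  exact this

/-- Roots of Gabber polynomials. -/
theorem exists_root {n : ℕ} (hn : 0 < n) (c : ℕ → B) (hc : ∀ j ≤ n, c j ∈ D.F 1) :
    ∃ α : B, α - 1 ∈ D.F 1 ∧ G n c α = 0 := by
  have := D.hens
  let c' : ℕ → D.R := fun j => if h : j ≤ n then ⟨c j, mem_R_of_mem_F (hc j h)⟩ else 0
  have hc' : ∀ j, c' j ∈ Ideal.span {D.t} := by
    intro j
    by_cases h : j ≤ n
    · simp only [c', h, dif_pos]
      exact (mem_span_iff _).2 (hc j h)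
    · simp only [c', h, dif_neg, not_false_eq_true]
      exact Ideal.zero_mem _
  obtain ⟨α, hα, h0⟩ := K23.GabRoot.exists_root (I := Ideal.span {D.t}) hn c' hc'
  refine ⟨α, (mem_span_iff _).1 hα, ?_⟩
  have h1 := congrArg (D.R.subtype) h0
  rw [map_G, map_zero] at h1
  rw [← h1]
  unfold G
  congr 1
  refine Finset.sum_congr rfl fun j hj => ?_
  have hj' : j ≤ n := Nat.lt_succ_iff.1 (Finset.mem_range.1 hj)
  simp only [c', hj', dif_pos]
  rfl

theorem mem_R_of_sub_one {α : B} (h : α - 1 ∈ D.F 1) : α ∈ D.R := by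
  have := D.R.add_mem (mem_R_of_mem_F h) D.R.one_mem
  rwa [sub_add_cancel] at this

/-- Roots of Gabber polynomials depend continuously on the coefficients. -/
theorem root_congr {n k : ℕ} (c c' : ℕ → B) (hc : ∀ j ≤ n, c j ∈ D.F 1) (hc' : ∀ j ≤ n, c' j ∈ D.F 1)
    (hcc : ∀ j ≤ n, c j - c' j ∈ D.F k) {α β : B} (hα : α - 1 ∈ D.F 1) (hβ : β - 1 ∈ D.F 1)
    (h1 : G n c α = 0) (h2 : G n c' β = 0) : α - β ∈ D.F k := by
  let d : ℕ → D.R := fun j => if h : j ≤ n then ⟨c j, mem_R_of_mem_F (hc j h)⟩ else 0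
  let d' : ℕ → D.R := fun j => if h : j ≤ n then ⟨c' j, mem_R_of_mem_F (hc' j h)⟩ else 0
  have hd : ∀ j, d j ∈ Ideal.span {D.t} := by
    intro j
    by_cases h : j ≤ n
    · simp only [d, h, dif_pos]
      exact (mem_span_iff _).2 (hc j h)
    · simp only [d, h, dif_neg, not_false_eq_true]
      exact Ideal.zero_mem _
  have hdd : ∀ j ≤ n, d j - d' j ∈ Ideal.span {D.t ^ k} := by
    intro j h
    simp only [d, d', h, dif_pos]
    rw [mem_span_pow_iff]
    exact hcc j h
  have key : ∀ (e : ℕ → B) (e' : ℕ → D.R) (_ : ∀ j ≤ n, (e' j : B) = e j) (γ : D.R),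
      G n e (γ : B) = 0 → G n e' γ = 0 := by
    intro e e' he γ h
    apply Subtype.ext
    change D.R.subtype (G n e' γ) = 0
    rw [map_G, ← h]
    unfold G
    congr 1
    refine Finset.sum_congr rfl fun j hj => ?_
    have hj' : j ≤ n := Nat.lt_succ_iff.1 (Finset.mem_range.1 hj)
    rw [← he j hj']
    rfl
  have h3 := K23.GabRoot.root_congr (I := Ideal.span {D.t}) D.jac (Ideal.span {D.t ^ k}) (n := n) d d' hd hdd
    (α := ⟨α, mem_R_of_sub_one hα⟩) (β := ⟨β, mem_R_of_sub_one hβ⟩) ((mem_span_iff _).2 hα)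
    ((mem_span_iff _).2 hβ)
    (key c d (fun j h => by simp only [d, h, dif_pos]) _ h1)
    (key c' d' (fun j h => by simp only [d', h, dif_pos]) _ h2)
  exact (mem_span_pow_iff _).1 h3

variable (D) in
/-- Convergence for the topology given by the subgroups `F k`. -/
def Tends {ι : Type v} (f : ι → B) (l : Filter ι) (y : B) : Prop := ∀ k, ∀ᶠ x in l, f x - y ∈ D.F k

variable {ι : Type v} {l : Filter ι}

theorem Tends.const (y : B) : D.Tends (fun _ : ι => y) l y := fun k =>
  Filter.Eventually.of_forall fun _ => by rw [sub_self]; exact (D.F k).zero_mem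

theorem Tends.congr {f g : ι → B} {y : B} (h : D.Tends f l y) (hfg : ∀ᶠ x in l, g x = f x) :
    D.Tends g l y := fun k => by
  filter_upwards [h k, hfg] with x hx hx'
  rwa [hx']

theorem Tends.add {f g : ι → B} {y z : B} (hf : D.Tends f l y) (hg : D.Tends g l z) :
    D.Tends (fun x => f x + g x) l (y + z) := fun k => by
  filter_upwards [hf k, hg k] with x hx hx'
  have := (D.F k).add_mem hx hx'
  rwa [add_sub_add_comm]

theorem Tends.neg {f : ι → B} {y : B} (hf : D.Tends f l y) :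
    D.Tends (fun x => - f x) l (- y) := fun k => by
  filter_upwards [hf k] with x hx
  have := (D.F k).neg_mem hx
  rwa [neg_sub_neg, ← neg_sub]

theorem Tends.mul {f g : ι → B} {y z : B} (hf : D.Tends f l y) (hg : D.Tends g l z) :
    D.Tends (fun x => f x * g x) l (y * z) := fun k => by
  obtain ⟨p, hp⟩ := exists_mul_mem (D := D) y k
  obtain ⟨q, hq⟩ := exists_mul_mem (D := D) z k
  filter_upwards [hf k, hg 0, hg p, hf q] with x h1 h2 h3 h4
  have e : f x * g x - y * z = (f x - y) * (g x - z) + (y * (g x - z) + z * (f x - y)) := by ring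
  rw [e]
  refine (D.F k).add_mem ?_ ((D.F k).add_mem (hp _ h3) (hq _ h4))
  exact F_mul h1 h2

/-- `F k` is closed. -/
theorem Tends.mem_F [l.NeBot] {f : ι → B} {y : B} (hf : D.Tends f l y) {k : ℕ}
    (h : ∀ᶠ x in l, f x ∈ D.F k) : y ∈ D.F k := by
  obtain ⟨x, h1, h2⟩ := ((hf k).and h).exists
  have := (D.F k).sub_mem h2 h1
  rwa [sub_sub_cancel] at this

end Dat

/-- Index shapes. -/
structure Shape where
  /-- the index type of the families -/
  ι : Type
  /-- the index type of the limits -/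
  κ : Type
  /-- the filters -/
  l : κ → Filter ι
  neBot : ∀ c, (l c).NeBot
  /-- the main filter -/
  inf : κ
  /-- a basis of the main filter -/
  s : ℕ → Set ι
  anti : Antitone s
  basis : ∀ u ∈ l inf, ∃ N, s N ⊆ u
  mem_inf : ∀ N, s N ∈ l inf
  dec : ∀ c N, s N ∈ l c ∨ (s N)ᶜ ∈ l c

variable {B : Type u} [CommRing B] {B' : Type v} [CommRing B'] (D : Dat B) (D' : Dat B') (φ : B →+* B')
  (E : Shape)

/-- The ring of convergent families together with their limits. -/
def S : Subring ((E.ι → B) × (E.κ → B')) where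
  carrier := {p | ∀ c, D'.Tends (fun x => φ (p.1 x)) (E.l c) (p.2 c)}
  mul_mem' := by
    intro p q hp hq c
    have := (hp c).mul (hq c)
    simp only [← map_mul] at this
    exact this
  one_mem' := by
    intro c
    have : D'.Tends (fun _ : E.ι => (1 : B')) (E.l c) 1 := Dat.Tends.const 1
    simpa using this
  add_mem' := by
    intro p q hp hq c
    have := (hp c).add (hq c)
    simp only [← map_add] at this
    exact this
  zero_mem' := by
    intro c
    have : D'.Tends (fun _ : E.ι => (0 : B')) (E.l c) 0 := Dat.Tends.const 0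
    simpa using this
  neg_mem' := by
    intro p hp c
    have := (hp c).neg
    simp only [← map_neg] at this
    exact this

variable {E}

theorem mem_S {p : (E.ι → B) × (E.κ → B')} :
    p ∈ S D' φ E ↔ ∀ c, D'.Tends (fun x => φ (p.1 x)) (E.l c) (p.2 c) := Iff.rfl

/-- Families vanishing on `s N`. -/
def K (N : ℕ) : Ideal (S D' φ E) where
  carrier := {p | (∀ x ∈ E.s N, p.1.1 x = 0) ∧ ∀ c, E.s N ∈ E.l c → p.1.2 c = 0}
  add_mem' := by
    rintro p q ⟨hp1, hp2⟩ ⟨hq1, hq2⟩
    refine ⟨fun x hx => ?_, fun c hc => ?_⟩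
    · change p.1.1 x + q.1.1 x = 0
      rw [hp1 x hx, hq1 x hx, add_zero]
    · change p.1.2 c + q.1.2 c = 0
      rw [hp2 c hc, hq2 c hc, add_zero]
  zero_mem' := ⟨fun _ _ => rfl, fun _ _ => rfl⟩
  smul_mem' := by
    rintro a p ⟨hp1, hp2⟩
    refine ⟨fun x hx => ?_, fun c hc => ?_⟩
    · change a.1.1 x * p.1.1 x = 0
      rw [hp1 x hx, mul_zero]
    · change a.1.2 c * p.1.2 c = 0
      rw [hp2 c hc, mul_zero]

theorem mem_K {N : ℕ} {p : S D' φ E} :
    p ∈ K D' φ N ↔ (∀ x ∈ E.s N, p.1.1 x = 0) ∧ ∀ c, E.s N ∈ E.l c → p.1.2 c = 0 := Iff.rfl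

theorem K_mono : Monotone (K D' φ (E := E)) := by
  intro N M h p hp
  exact ⟨fun x hx => hp.1 x (E.anti h hx), fun c hc => hp.2 c (Filter.mem_of_superset hc (E.anti h))⟩

/-- Families vanishing eventually. -/
def Kinf : Ideal (S D' φ E) where
  carrier := {p | ∃ N, p ∈ K D' φ N}
  add_mem' := by
    rintro p q ⟨N, hN⟩ ⟨M, hM⟩
    exact ⟨max N M, add_mem (K_mono D' φ (le_max_left N M) hN) (K_mono D' φ (le_max_right N M) hM)⟩
  zero_mem' := ⟨0, zero_mem _⟩
  smul_mem' := by
    rintro a p ⟨N, hN⟩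
    exact ⟨N, Ideal.mul_mem_left _ a hN⟩

theorem mem_Kinf {p : S D' φ E} : p ∈ Kinf D' φ ↔ ∃ N, p ∈ K D' φ N := Iff.rfl

variable (E) in
/-- The main limit. -/
def lim : S D' φ E →+* B' where
  toFun p := p.1.2 E.inf
  map_one' := rfl
  map_mul' _ _ := rfl
  map_zero' := rfl
  map_add' _ _ := rfl

theorem lim_apply (p : S D' φ E) : lim D' φ E p = p.1.2 E.inf := rfl

theorem Kinf_le_ker : Kinf D' φ ≤ RingHom.ker (lim D' φ E) := by
  rintro p ⟨N, hN⟩
  exact hN.2 _ (E.mem_inf N)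

/-- Build an element of `S` from functions given on `s N` (and the corresponding limits), extended by a
constant. -/
theorem exists_glue (N : ℕ) (z : B) (f : E.ι → B) (g : E.κ → B')
    (h : ∀ c, E.s N ∈ E.l c → D'.Tends (fun x => φ (f x)) (E.l c) (g c)) :
    ∃ p : S D' φ E, (∀ x ∈ E.s N, p.1.1 x = f x) ∧ (∀ c, E.s N ∈ E.l c → p.1.2 c = g c) := by
  classical
  refine ⟨⟨(fun x => if x ∈ E.s N then f x else z, fun c => if E.s N ∈ E.l c then g c else φ z), ?_⟩,
    fun x hx => if_pos hx, fun c hc => if_pos hc⟩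
  intro c
  rcases E.dec c N with hc | hc
  · change D'.Tends _ _ (if E.s N ∈ E.l c then g c else φ z)
    rw [if_pos hc]
    refine (h c hc).congr ?_
    filter_upwards [hc] with x hx
    simp only [if_pos hx]
  · have hne : E.s N ∉ E.l c := by
      intro h1
      have := E.neBot c
      have h2 := Filter.inter_mem h1 hc
      rw [Set.inter_compl_self] at h2
      exact Filter.empty_notMem _ h2
    change D'.Tends _ _ (if E.s N ∈ E.l c then g c else φ z)
    rw [if_neg hne]
    refine (Dat.Tends.const (φ z)).congr ?_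
    filter_upwards [hc] with x hx
    simp only [if_neg hx]

/-- For null families `z` there is `N` such that `z` has values in `F 1` on `s N`. -/
theorem exists_N (hF : ∀ k x, φ x ∈ D'.F k → x ∈ D.F k) (p : S D' φ E)
    (hp : p ∈ RingHom.ker (lim D' φ E)) :
    ∃ N, (∀ x ∈ E.s N, p.1.1 x ∈ D.F 1) ∧ ∀ c, E.s N ∈ E.l c → p.1.2 c ∈ D'.F 1 := by
  have h1 := (p.2 : p.1 ∈ S D' φ E) E.inf 1
  have h0 : p.1.2 E.inf = 0 := hp
  rw [h0] at h1
  obtain ⟨N, hN⟩ := E.basis _ h1
  have h2 : ∀ x ∈ E.s N, φ (p.1.1 x) ∈ D'.F 1 := by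
    intro x hx
    have : φ (p.1.1 x) - 0 ∈ D'.F 1 := hN hx
    rwa [sub_zero] at this
  refine ⟨N, fun x hx => hF _ _ (h2 x hx), fun c hc => ?_⟩
  have := E.neBot c
  refine Dat.Tends.mem_F ((p.2 : p.1 ∈ S D' φ E) c) ?_
  filter_upwards [hc] with x hx using h2 x hx

/-- (Families up to eventual equality, null families) is a henselian pair. -/
theorem henselian (hR : ∀ x ∈ D.R, φ x ∈ D'.R) (ht : φ D.t = D'.t)
    (hF : ∀ k x, φ x ∈ D'.F k → x ∈ D.F k) :
    HenselianRing (S D' φ E ⧸ Kinf D' φ) ((RingHom.ker (lim D' φ E)).map (Ideal.Quotient.mk (Kinf D' φ))) := by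
  classical
  have hφF : ∀ k x, x ∈ D.F k → φ x ∈ D'.F k := by
    rintro k _ ⟨r, hr, rfl⟩
    refine ⟨φ r, hR r hr, ?_⟩
    simp only [AddMonoidHom.coe_mulLeft, map_mul, map_pow, ht]
  apply henselian_quotient
  · intro z hz
    obtain ⟨N, hN1, hN2⟩ := exists_N D D' φ hF z hz
    have h1 : ∀ x, ∃ w : B, x ∈ E.s N → w ∈ D.R ∧ (1 + z.1.1 x) * w = 1 := by
      intro x
      by_cases hx : x ∈ E.s N
      · obtain ⟨w, hw⟩ := Dat.exists_inv (hN1 x hx)
        exact ⟨w, fun _ => hw⟩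
      · exact ⟨0, fun h => absurd h hx⟩
    have h2 : ∀ c, ∃ w : B', E.s N ∈ E.l c → w ∈ D'.R ∧ (1 + z.1.2 c) * w = 1 := by
      intro c
      by_cases hc : E.s N ∈ E.l c
      · obtain ⟨w, hw⟩ := Dat.exists_inv (hN2 c hc)
        exact ⟨w, fun _ => hw⟩
      · exact ⟨0, fun h => absurd h hc⟩
    choose f hf using h1
    choose g hg using h2
    obtain ⟨w, hw1, hw2⟩ := exists_glue D' φ N 1 f g (by
      intro c hc k
      have h3 := (z.2 : z.1 ∈ S D' φ E) c k
      filter_upwards [hc, h3] with x hx h3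
      have h4 := hf x hx
      have h5 := hg c hc
      have h6 : φ (f x) - g c = -(φ (z.1.1 x) - z.1.2 c) * (φ (f x) * g c) := by
        have h7 := congrArg φ h4.2
        rw [map_mul, map_add, map_one] at h7
        linear_combination (-(φ (f x))) * h5.2 + (g c) * h7
      rw [h6, neg_mul]
      refine (D'.F k).neg_mem ?_
      have h8 : φ (f x) * g c ∈ D'.F 0 := Dat.mem_F_zero.2 (D'.R.mul_mem (hR _ h4.1) h5.1)
      exact Dat.F_mul h3 h8)
    refine ⟨w, N, fun x hx => ?_, fun c hc => ?_⟩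
    · change (1 + z.1.1 x) * w.1.1 x - 1 = 0
      rw [hw1 x hx, (hf x hx).2, sub_self]
    · change (1 + z.1.2 c) * w.1.2 c - 1 = 0
      rw [hw2 c hc, (hg c hc).2, sub_self]
  · intro n hn c hc
    -- a common `N`
    have h0 : ∃ N, ∀ j ≤ n, (∀ x ∈ E.s N, (c j).1.1 x ∈ D.F 1) ∧
        ∀ d, E.s N ∈ E.l d → (c j).1.2 d ∈ D'.F 1 := by
      choose N hN1 hN2 using fun j => exists_N D D' φ hF (c j) (hc j)
      refine ⟨(Finset.range (n + 1)).sup N, fun j hj => ?_⟩
      have hle : N j ≤ (Finset.range (n + 1)).sup N :=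
        Finset.le_sup (f := N) (Finset.mem_range.2 (Nat.lt_succ_iff.2 hj))
      exact ⟨fun x hx => hN1 j x (E.anti hle hx),
        fun d hd => hN2 j d (Filter.mem_of_superset hd (E.anti hle))⟩
    obtain ⟨N, hN⟩ := h0
    have h1 : ∀ x, ∃ α : B, x ∈ E.s N → α - 1 ∈ D.F 1 ∧ G n (fun j => (c j).1.1 x) α = 0 := by
      intro x
      by_cases hx : x ∈ E.s N
      · obtain ⟨w, hw⟩ := Dat.exists_root (D := D) hn (fun j => (c j).1.1 x)
          (fun j hj => (hN j hj).1 x hx)
        exact ⟨w, fun _ => hw⟩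
      · exact ⟨0, fun h => absurd h hx⟩
    have h2 : ∀ d, ∃ α : B', E.s N ∈ E.l d → α - 1 ∈ D'.F 1 ∧ G n (fun j => (c j).1.2 d) α = 0 := by
      intro d
      by_cases hd : E.s N ∈ E.l d
      · obtain ⟨w, hw⟩ := Dat.exists_root (D := D') hn (fun j => (c j).1.2 d)
          (fun j hj => (hN j hj).2 d hd)
        exact ⟨w, fun _ => hw⟩
      · exact ⟨0, fun h => absurd h hd⟩
    choose f hf using h1
    choose g hg using h2
    obtain ⟨w, hw1, hw2⟩ := exists_glue D' φ N 1 f g (by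
      intro d hd k
      have h3 : ∀ᶠ x in E.l d, ∀ j ∈ Finset.range (n + 1), φ ((c j).1.1 x) - (c j).1.2 d ∈ D'.F k :=
        (Filter.eventually_all_finset _).2 fun j _ => ((c j).2 : (c j).1 ∈ S D' φ E) d k
      filter_upwards [hd, h3] with x hx h3
      refine Dat.root_congr (D := D') (fun j => φ ((c j).1.1 x)) (fun j => (c j).1.2 d)
        (fun j hj => hφF _ _ ((hN j hj).1 x hx)) (fun j hj => (hN j hj).2 d hd)
        (fun j hj => h3 j (Finset.mem_range.2 (Nat.lt_succ_iff.2 hj))) ?_ (hg d hd).1 ?_ (hg d hd).2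
      · have := hφF _ _ (hf x hx).1
        rwa [map_sub, map_one] at this
      · rw [← map_G, (hf x hx).2, map_zero])
    refine ⟨w, ?_, N, fun x hx => ?_, fun d hd => ?_⟩
    · rw [RingHom.mem_ker, map_sub, map_one, lim_apply, hw2 _ (E.mem_inf N), sub_eq_zero]
      have h3 := (hg _ (E.mem_inf N)).2
      have h4 := (hg _ (E.mem_inf N)).1
      -- the limit polynomial is `X ^ n (X - 1)`
      have h5 : ∀ j, (c j).1.2 E.inf = 0 := fun j => hc j
      have h6 : G n (fun _ => (0 : B')) (1 : B') = 0 := by simp [G]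
      have h7 : g E.inf - 1 ∈ D'.F 1 := h4
      have h8 : G n (fun _ => (0 : B')) (g E.inf) = 0 := by
        refine Eq.trans ?_ h3
        simp only [h5]
      have h9 : (g E.inf) ^ n * (g E.inf - 1) = 0 := by
        have := h8
        unfold G at this
        simpa using this
      obtain ⟨v, -, hv⟩ := Dat.exists_inv h7
      rw [add_sub_cancel] at hv
      have h10 : v ^ n * ((g E.inf) ^ n * (g E.inf - 1)) = g E.inf - 1 := by
        rw [← mul_assoc, ← mul_pow, mul_comm v, hv, one_pow, one_mul]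
      rw [h9, mul_zero] at h10
      exact (sub_eq_zero.1 h10.symm)
    · have h3 := (hf x hx).2
      rw [← hw1 x hx] at h3
      have h4 := map_G ((Pi.evalRingHom (fun _ : E.ι => B) x).comp
        ((RingHom.fst _ _).comp (S D' φ E).subtype)) n c w
      exact h4.trans h3
    · have h3 := (hg d hd).2
      rw [← hw2 d hd] at h3
      have h4 := map_G ((Pi.evalRingHom (fun _ : E.κ => B') d).comp
        ((RingHom.snd _ _).comp (S D' φ E).subtype)) n c w
      exact h4.trans h3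

end K23.ConvRing
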