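import Groth.Agent.S0524
import Groth.Agent.Hensel.PairGabber
import Mathlib.RingTheory.Henselian

/-!
# Gabber's criterion for henselian pairs, in terms of coefficients

`G n c α = α ^ n * (α - 1) + ∑ j ≤ n, c j * α ^ j`.
-/

set_option autoImplicit false
open Polynomial

namespace K23.GabRoot

universe u

/-- The value at `α` of the Gabber polynomial `X ^ n (X - 1) + ∑ c_j X ^ j`. -/
def G {R : Type*} [CommRing R] (n : ℕ) (c : ℕ → R) (α : R) : R :=
  α ^ n * (α - 1) + ∑ j ∈ Finset.range (n + 1), c j * α ^ j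

theorem map_G {R S : Type*} [CommRing R] [CommRing S] (φ : R →+* S) (n : ℕ) (c : ℕ → R) (α : R) :
    φ (G n c α) = G n (fun j => φ (c j)) (φ α) := by
  simp only [G, map_add, map_mul, map_pow, map_sub, map_one, map_sum]

/-- The polynomial with coefficients `c`. -/
noncomputable def pol {R : Type*} [CommRing R] (n : ℕ) (c : ℕ → R) : R[X] :=
  ∑ j ∈ Finset.range (n + 1), C (c j) * X ^ j

theorem natDegree_pol {R : Type*} [CommRing R] (n : ℕ) (c : ℕ → R) : (pol n c).natDegree ≤ n := by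
  refine natDegree_sum_le_of_forall_le _ _ fun j hj => ?_
  exact (natDegree_C_mul_X_pow_le _ _).trans (Nat.lt_succ_iff.1 (Finset.mem_range.1 hj))

theorem coeff_pol {R : Type*} [CommRing R] (n : ℕ) (c : ℕ → R) (i : ℕ) :
    (pol n c).coeff i = if i ≤ n then c i else 0 := by
  rw [pol, finset_sum_coeff]
  simp only [coeff_C_mul_X_pow]
  rw [Finset.sum_ite_eq]
  simp [Nat.lt_succ_iff]

theorem coeff_pol_mem {R : Type*} [CommRing R] (I : Ideal R) (n : ℕ) (c : ℕ → R)
    (hc : ∀ j, c j ∈ I) (i : ℕ) : (pol n c).coeff i ∈ I := by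
  rw [coeff_pol]
  split_ifs
  · exact hc i
  · exact I.zero_mem

theorem isRoot_iff {R : Type*} [CommRing R] (n : ℕ) (c : ℕ → R) (α : R) :
    (X ^ n * (X - 1) + pol n c).IsRoot α ↔ G n c α = 0 := by
  rw [IsRoot.def, G, pol, eval_add, eval_mul, eval_pow, eval_X, eval_sub, eval_X, eval_one,
    eval_finset_sum]
  simp only [eval_mul, eval_C, eval_pow, eval_X]

theorem exists_root {R : Type u} [CommRing R] {I : Ideal R} [HenselianRing R I] {n : ℕ} (hn : 0 < n)
    (c : ℕ → R) (hc : ∀ j, c j ∈ I) : ∃ α : R, α - 1 ∈ I ∧ G n c α = 0 := by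
  obtain ⟨α, ⟨h1, h2⟩, -⟩ := ((Groth.Agent.S0524.result R I).1 inferInstance).2 n hn (pol n c)
    (natDegree_pol n c) (coeff_pol_mem I n c hc)
  exact ⟨α, h1, (isRoot_iff n c α).1 h2⟩

theorem root_unique {R : Type u} [CommRing R] {I : Ideal R} (hI : I ≤ Ideal.jacobson ⊥) {n : ℕ}
    (c : ℕ → R) (hc : ∀ j, c j ∈ I) {α β : R} (hα : α - 1 ∈ I) (hβ : β - 1 ∈ I)
    (h1 : G n c α = 0) (h2 : G n c β = 0) : α = β :=
  Groth.Agent.Hensel.PairGabber.gabber_root_unique hI (coeff_pol_mem I n c hc) hα hβ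
    ((isRoot_iff n c α).2 h1) ((isRoot_iff n c β).2 h2)

/-- Roots depend continuously on the coefficients. -/
theorem root_congr {R : Type u} [CommRing R] {I : Ideal R} (hI : I ≤ Ideal.jacobson ⊥) (J : Ideal R)
    {n : ℕ} (c c' : ℕ → R) (hc : ∀ j, c j ∈ I) (hcc : ∀ j ≤ n, c j - c' j ∈ J)
    {α β : R} (hα : α - 1 ∈ I) (hβ : β - 1 ∈ I) (h1 : G n c α = 0) (h2 : G n c' β = 0) :
    α - β ∈ J := by
  rw [← Ideal.Quotient.eq]
  have hI' : I.map (Ideal.Quotient.mk J) ≤ Ideal.jacobson ⊥ := by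
    have h3 := Ideal.map_mono (f := Ideal.Quotient.mk J) hI
    have h4 : (Ideal.jacobson (⊥ : Ideal R)).map (Ideal.Quotient.mk J) ≤
        Ideal.jacobson (⊥ : Ideal (R ⧸ J)) := by
      rw [Ideal.map_le_iff_le_comap]
      intro x hx
      rw [Ideal.mem_comap, Ideal.mem_jacobson_bot]
      intro y
      obtain ⟨y, rfl⟩ := Ideal.Quotient.mk_surjective y
      have h5 := (Ideal.mem_jacobson_bot.1 hx y).map (Ideal.Quotient.mk J)
      rwa [map_add, map_mul, map_one] at h5
    exact h3.trans h4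
  refine root_unique (n := n) hI' (fun j => Ideal.Quotient.mk J (c j))
    (fun j => Ideal.mem_map_of_mem _ (hc j)) ?_ ?_ ?_ ?_
  · have := Ideal.mem_map_of_mem (Ideal.Quotient.mk J) hα
    rwa [map_sub, map_one] at this
  · have := Ideal.mem_map_of_mem (Ideal.Quotient.mk J) hβ
    rwa [map_sub, map_one] at this
  · rw [← map_G, h1, map_zero]
  · have h3 : G n (fun j => Ideal.Quotient.mk J (c j)) (Ideal.Quotient.mk J β) =
        G n (fun j => Ideal.Quotient.mk J (c' j)) (Ideal.Quotient.mk J β) := by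
      unfold G
      congr 1
      refine Finset.sum_congr rfl fun j hj => ?_
      congr 1
      exact Ideal.Quotient.eq.2 (hcc j (Nat.lt_succ_iff.1 (Finset.mem_range.1 hj)))
    rw [h3, ← map_G, h2, map_zero]

/-- Gabber's criterion for a pair `(C / K, I / K)`, in terms of `C`. -/
theorem henselian_quotient {C : Type u} [CommRing C] (K I : Ideal C)
    (hjac : ∀ z ∈ I, ∃ w : C, (1 + z) * w - 1 ∈ K)
    (hroot : ∀ (n : ℕ) (_ : 0 < n) (c : ℕ → C), (∀ j, c j ∈ I) → ∃ α : C, α - 1 ∈ I ∧ G n c α ∈ K) :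
    HenselianRing (C ⧸ K) (I.map (Ideal.Quotient.mk K)) := by
  have hsurj : Function.Surjective (Ideal.Quotient.mk K) := Ideal.Quotient.mk_surjective
  have hI : I.map (Ideal.Quotient.mk K) ≤ Ideal.jacobson ⊥ := by
    intro x hx
    rw [Ideal.mem_jacobson_bot]
    intro y
    have h1 : x * y ∈ I.map (Ideal.Quotient.mk K) := Ideal.mul_mem_right _ _ hx
    obtain ⟨z, hz, hzx⟩ := (Ideal.mem_map_iff_of_surjective _ hsurj).1 h1
    obtain ⟨w, hw⟩ := hjac z hz
    rw [← hzx]
    refine IsUnit.of_mul_eq_one (Ideal.Quotient.mk K w) ?_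
    have h2 := Ideal.Quotient.eq_zero_iff_mem.2 hw
    rw [map_sub, map_mul, map_add, map_one, sub_eq_zero] at h2
    rw [add_comm]
    exact h2
  rw [Groth.Agent.S0524.result]
  refine ⟨hI, fun n hn p hp hpI => ?_⟩
  have h1 : ∀ i, ∃ x ∈ I, Ideal.Quotient.mk K x = p.coeff i := fun i =>
    (Ideal.mem_map_iff_of_surjective _ hsurj).1 (hpI i)
  choose c hcI hc using h1
  obtain ⟨α, hα, hα2⟩ := hroot n hn c hcI
  have hpol : p = pol n (fun j => Ideal.Quotient.mk K (c j)) := by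
    ext i
    rw [coeff_pol]
    split_ifs with h
    · exact (hc i).symm
    · exact coeff_eq_zero_of_natDegree_lt (lt_of_le_of_lt hp (not_le.1 h))
  refine ⟨Ideal.Quotient.mk K α, ⟨?_, ?_⟩, ?_⟩
  · have := Ideal.mem_map_of_mem (Ideal.Quotient.mk K) hα
    rwa [map_sub, map_one] at this
  · rw [hpol, isRoot_iff, ← map_G, Ideal.Quotient.eq_zero_iff_mem]
    exact hα2
  · rintro β ⟨hβ1, hβ2⟩
    rw [hpol, isRoot_iff] at hβ2
    refine root_unique hI _ (fun j => Ideal.mem_map_of_mem _ (hcI j)) hβ1 ?_ hβ2 ?_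
    · have := Ideal.mem_map_of_mem (Ideal.Quotient.mk K) hα
      rwa [map_sub, map_one] at this
    · rw [← map_G, Ideal.Quotient.eq_zero_iff_mem]
      exact hα2

end K23.GabRoot
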