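import Groth.Agent.EtCoh.K23.ConvMain
import Groth.Agent.Etcore.LimBC1
import Groth.Agent.Etcore.LimEtH
import Groth.Agent.Etcore.PullbackLim
import Groth.Agent.Etcore.FGLim
import Groth.Agent.Etcore.Torsion
import Groth.Agent.Sga4A.HpullEfface
import Groth.Agent.S0122
import Groth.Agent.S0154

/-!
# Étale cohomology of algebras with coefficients in a sheaf on the base

* `lim_ring`: `H^n(Spec (colim R_i), F) = colim H^n(Spec R_i, F)`.
* `res_bijective_of_henselian`: invariance under quotients by henselian ideals (torsion sheaves).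
* `HF F n` : the functor `Under B ⥤ Type`, with `limProp`, `hensProp`.
* `bijective`: the Fujiwara–Gabber theorem for `ConvRing.Dat`s.
-/

set_option autoImplicit false
set_option backward.isDefEq.respectTransparency.types false
universe u
open CategoryTheory CategoryTheory.Limits AlgebraicGeometry Opposite Abelian
open scoped Groth.Agent.Etcore.EtInst
open Groth.Agent.Etcore.EtInst

namespace K23.HQAlg

open Groth.Agent.Etcore Groth.Agent.Etcore.HQ Groth.Agent.Etcore.HpullCalc Groth.Agent.Etcore.PullCoh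
open K23.ConvRing K23.ConvMain

attribute [local instance] pfl

/-- Restriction to `Spec (A/I)` for a henselian pair, in the canonical form. -/
theorem Hpull_affine (A : Type u) [CommRing A] (I : Ideal A) [HenselianRing A I]
    (F : EtCoh.Ab (Spec (CommRingCat.of A))) (hF : EtCoh.IsTorsion F) (q : ℕ) :
    Function.Bijective
      (EtCore.Hpull (Spec.map (CommRingCat.ofHom (Ideal.Quotient.mk I))) F q) := by
  have : IsClosedImmersion (Spec.map (CommRingCat.ofHom (Ideal.Quotient.mk I))) :=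
    IsClosedImmersion.spec_of_surjective _ Ideal.Quotient.mk_surjective
  refine Groth.Agent.Sga4A.HpullEfface.Hpull_bijective_of_efface _
    (fun F _ => Groth.Agent.S0122.result A I F)
    (fun F hF q hq ξ => ?_)
    (fun F hF q hq ξ => Groth.Agent.S0154.result _ _ _ F hF q hq ξ) F hF q
  obtain ⟨F', hF', φ, hφ, h⟩ := Groth.Agent.S0154.result _ _ (𝟙 (Spec (CommRingCat.of A))) F hF q hq
    (Sheaf.H.map ((Groth.Agent.EtpbcA.PullFLC.pullId _).inv.app F) q ξ)
  exact ⟨F', hF', φ, hφ, Groth.Agent.EtpbcA.UnitH.efface_of_pullId φ q ξ h⟩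

variable {X : Scheme.{u}} (F : EtCoh.Ab X)

/-- `res` is bijective when `hp` is. -/
theorem res_bijective_iff {Z Z' : Scheme.{u}} {q : Z ⟶ X} {q' : Z' ⟶ X}
    (k : Z' ⟶ Z) (h : k ≫ q = q') (n : ℕ) :
    Function.Bijective (res F k h n) ↔
      Function.Bijective (hp k ((EtCoh.pull q).obj F) n) := by
  have h1 : Function.Bijective (HHmap (th k q q' h F) n) := HHmap_bijective _ n
  have h2 : ⇑(res F k h n) = ⇑(HHmap (th k q q' h F) n) ∘ ⇑(hp k ((EtCoh.pull q).obj F) n) :=
    funext fun x => res_apply F k h n x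
  rw [h2]
  exact Function.Bijective.of_comp_iff' h1 _

theorem res_id {Z : Scheme.{u}} (q : Z ⟶ X) (h : 𝟙 Z ≫ q = q) (n : ℕ) (x : HQ F q n) :
    res F (𝟙 Z) h n x = x := by
  apply (LimBC1.res_bijective F (𝟙 Z) h n).1
  exact res_res F (𝟙 Z) h (𝟙 Z) h (𝟙 Z) (Category.comp_id _) h n x

/-- The limit theorem in terms of `res`. -/
theorem lim_gen {I : Type u} [SmallCategory I] [IsCofiltered I] (D : I ⥤ Scheme.{u})
    [∀ {i j} (f : i ⟶ j), IsAffineHom (D.map f)] [∀ i, CompactSpace (D.obj i)]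
    [∀ i, QuasiSeparatedSpace (D.obj i)] (c : Cone D) (hc : IsLimit c) (t : ∀ i, D.obj i ⟶ X) (ht : ∀ {x y : I} (f : x ⟶ y), D.map f ≫ t y = t x)
    (q : c.pt ⟶ X) (hq : ∀ j, c.π.app j ≫ t j = q)
    (n : ℕ) :
    (∀ x : HQ F q n, ∃ (j : I) (y : HQ F (t j) n), res F (c.π.app j) (hq j) n y = x) ∧
      (∀ (j : I) (y : HQ F (t j) n), res F (c.π.app j) (hq j) n y = 0 →
        ∃ (k : I) (f : k ⟶ j), res F (D.map f) (ht f) n y = 0) := by
  constructor
  · intro x
    obtain ⟨j, y, hy⟩ := LimEtH.surj_hpVia D c hc t ht q hq F n x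
    exact ⟨j, y, (LimBC1.res_eq_hpVia F _ _ n y).trans hy⟩
  · intro j y hy
    obtain ⟨k, f, hf⟩ := LimEtH.inj_hpVia D c hc t ht q hq F n j y
      ((LimBC1.res_eq_hpVia F _ _ n y).symm.trans hy)
    refine ⟨k, f, ?_⟩
    rw [res_apply, hf, map_zero]

section Functor

variable {B : Type u} [CommRing B] (F : EtCoh.Ab (Spec (CommRingCat.of B))) (n : ℕ)

theorem spec_comp {C C' : Type u} [CommRing C] [CommRing C'] {ψ : B →+* C} {ψ' : B →+* C'}
    (χ : C →+* C') (h : χ.comp ψ = ψ') : Spec.map (CommRingCat.ofHom χ) ≫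
      Spec.map (CommRingCat.ofHom ψ) = Spec.map (CommRingCat.ofHom ψ') := by
  rw [← Spec.map_comp, ← CommRingCat.ofHom_comp, h]

/-- The functor `C ↦ H^n(Spec C, F)` on `B`-algebras. -/
noncomputable def HF : Fun.{u, u + 1} B where
  obj ψ := HQ F (Spec.map (CommRingCat.ofHom ψ)) n
  map χ h := res F (Spec.map (CommRingCat.ofHom χ)) (spec_comp χ h) n
  map_id {C _ _} h x := (res_congr F
    (show Spec.map (CommRingCat.ofHom (RingHom.id C)) = 𝟙 (Spec (CommRingCat.of C)) from Spec.map_id _)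
    (spec_comp _ h) (Category.id_comp _) n x).trans (res_id F _ _ n x)
  map_map χ h χ' h' χ'' h'' e x :=
    res_res F _ (spec_comp χ h) _ (spec_comp χ' h') _ (spec_comp χ' e) (spec_comp χ'' h'') n x

end Functor

section LimProp

section Sys

variable {C : Type u} [CommRing C] (K : ℕ → Ideal C) (hK : Monotone K) (Ki : Ideal C)
  (hKi : ∀ x, x ∈ Ki ↔ ∃ N, x ∈ K N)

/-- The system `C ⧸ K N`. -/
def sysR : ULift.{u} ℕ ⥤ CommRingCat.{u} where
  obj N := CommRingCat.of (C ⧸ K N.down)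
  map {N M} h := CommRingCat.ofHom (Ideal.Quotient.factor (hK (show N.down ≤ M.down from (leOfHom h : N ≤ M))))
  map_id N := by
    apply CommRingCat.hom_ext
    apply Ideal.Quotient.ringHom_ext
    rfl
  map_comp {N M L} f g := by
    apply CommRingCat.hom_ext
    apply Ideal.Quotient.ringHom_ext
    rfl

include hKi in
theorem le_Ki (N : ℕ) : K N ≤ Ki := fun x hx => (hKi x).2 ⟨N, hx⟩

/-- The cocone. -/
def coneR : Cocone (sysR K hK) where
  pt := CommRingCat.of (C ⧸ Ki)
  ι :=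
    { app N := CommRingCat.ofHom (Ideal.Quotient.factor (le_Ki K Ki hKi N.down))
      naturality N M h := by
        apply CommRingCat.hom_ext
        apply Ideal.Quotient.ringHom_ext
        rfl }

theorem nonempty_isColimit_coneR : Nonempty (IsColimit (coneR K hK Ki hKi)) := by
  apply FGLim.nonempty_isColimit
  · intro x
    obtain ⟨x, rfl⟩ := Ideal.Quotient.mk_surjective x
    exact ⟨ULift.up 0, Ideal.Quotient.mk _ x, rfl⟩
  · intro N y z h
    obtain ⟨y, rfl⟩ := Ideal.Quotient.mk_surjective y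
    obtain ⟨z, rfl⟩ := Ideal.Quotient.mk_surjective z
    have h1 : (Ideal.Quotient.mk Ki) y = Ideal.Quotient.mk Ki z := h
    rw [Ideal.Quotient.eq, hKi] at h1
    obtain ⟨M, hM⟩ := h1
    refine ⟨ULift.up (max N.down M), homOfLE (show N ≤ ULift.up (max N.down M) from (le_max_left N.down M : N.down ≤ max N.down M)), ?_⟩
    change (Ideal.Quotient.mk (K (max N.down M))) y = Ideal.Quotient.mk _ z
    rw [Ideal.Quotient.eq]
    exact hK (le_max_right _ _) hM

/-- The schemes. -/
noncomputable def DD : (ULift.{u} ℕ)ᵒᵖ ⥤ Scheme.{u} where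
  obj N := Spec (CommRingCat.of (C ⧸ K N.unop.down))
  map {N M} h := Spec.map (CommRingCat.ofHom (Ideal.Quotient.factor
    (hK (show M.unop.down ≤ N.unop.down from (leOfHom h.unop : M.unop ≤ N.unop)))))
  map_id N := (PullbackLim.specSys (sysR K hK)).map_id N
  map_comp f g := (PullbackLim.specSys (sysR K hK)).map_comp f g

noncomputable def cD : Cone (DD K hK) where
  pt := Spec (CommRingCat.of (C ⧸ Ki))
  π :=
    { app N := Spec.map (CommRingCat.ofHom (Ideal.Quotient.factor (le_Ki K Ki hKi N.unop.down)))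
      naturality _ _ h := (PullbackLim.specCone (sysR K hK) (coneR K hK Ki hKi)).π.naturality h }

theorem nonempty_isLimit_cD : Nonempty (IsLimit (cD K hK Ki hKi)) := by
  obtain ⟨h⟩ := nonempty_isColimit_coneR K hK Ki hKi
  exact ⟨PullbackLim.isLimitSpecCone (sysR K hK) (coneR K hK Ki hKi) h⟩

theorem isAffineHom_DD {N M : (ULift.{u} ℕ)ᵒᵖ} (h : N ⟶ M) : IsAffineHom ((DD K hK).map h) :=
  inferInstanceAs (IsAffineHom (Spec.map _))

theorem compactSpace_DD (N : (ULift.{u} ℕ)ᵒᵖ) : CompactSpace ((DD K hK).obj N) :=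
  inferInstanceAs (CompactSpace (Spec _))

theorem quasiSeparatedSpace_DD (N : (ULift.{u} ℕ)ᵒᵖ) : QuasiSeparatedSpace ((DD K hK).obj N) :=
  inferInstanceAs (QuasiSeparatedSpace (Spec _))

end Sys

variable {B : Type u} [CommRing B] (F : EtCoh.Ab (Spec (CommRingCat.of B))) (n : ℕ)

theorem limProp : LimProp (HF F n) := by
  intro C _ ψ K hK Ki hKi q hq hq'
  obtain ⟨hl⟩ := nonempty_isLimit_cD K hK Ki hKi
  have i0 : ∀ {N M : (ULift.{u} ℕ)ᵒᵖ} (h : N ⟶ M), IsAffineHom ((DD K hK).map h) :=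
    isAffineHom_DD K hK
  have i1 : ∀ N : (ULift.{u} ℕ)ᵒᵖ, CompactSpace ((DD K hK).obj N) := compactSpace_DD K hK
  have i2 : ∀ N : (ULift.{u} ℕ)ᵒᵖ, QuasiSeparatedSpace ((DD K hK).obj N) := quasiSeparatedSpace_DD K hK
  obtain ⟨h1, h2⟩ := lim_gen F (DD K hK) (cD K hK Ki hKi) hl
    (fun N => Spec.map (CommRingCat.ofHom ((Ideal.Quotient.mk (K N.unop.down)).comp ψ)))
    (fun {N M} h => spec_comp (Ideal.Quotient.factor
      (hK (show M.unop.down ≤ N.unop.down from (leOfHom h.unop : M.unop ≤ N.unop)))) rfl)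
    (Spec.map (CommRingCat.ofHom ((Ideal.Quotient.mk Ki).comp ψ)))
    (fun N => spec_comp (Ideal.Quotient.factor (le_Ki K Ki hKi N.unop.down)) rfl) n
  obtain rfl : q = fun N => Ideal.Quotient.factor (le_Ki K Ki hKi N) :=
    funext fun N => Ideal.Quotient.ringHom_ext (hq N)
  constructor
  · intro x
    obtain ⟨N, y, hy⟩ := h1 x
    exact ⟨N.unop.down, y, hy⟩
  · intro N y z hyz
    let y' : HQ F (Spec.map (CommRingCat.ofHom ((Ideal.Quotient.mk (K N)).comp ψ))) n := y
    let z' : HQ F (Spec.map (CommRingCat.ofHom ((Ideal.Quotient.mk (K N)).comp ψ))) n := z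
    obtain ⟨M, h, h3⟩ := h2 (op (ULift.up N)) (y' - z') ((map_sub _ y' z').trans (sub_eq_zero.2 hyz))
    have hNM : N ≤ M.unop.down := (leOfHom h.unop : ULift.up N ≤ M.unop)
    have hr : (Ideal.Quotient.factor (hK hNM)).comp ((Ideal.Quotient.mk (K N)).comp ψ) =
      (Ideal.Quotient.mk (K M.unop.down)).comp ψ := rfl
    have h4 : res F (Spec.map (CommRingCat.ofHom (Ideal.Quotient.factor (hK hNM))))
      (spec_comp (Ideal.Quotient.factor (hK hNM)) hr) n y' =
      res F (Spec.map (CommRingCat.ofHom (Ideal.Quotient.factor (hK hNM))))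
      (spec_comp (Ideal.Quotient.factor (hK hNM)) hr) n z' := sub_eq_zero.1 ((map_sub _ y' z').symm.trans h3)
    refine ⟨M.unop.down, hNM, Ideal.Quotient.factor (hK hNM), ?_, hr, h4⟩
    exact Ideal.Quotient.factor_comp_mk _

theorem hensProp (hF : EtCoh.IsTorsion F) : HensProp (HF F n) := by
  intro C C' _ _ ψ ψ' χ h hχ hhens
  let e := RingHom.quotientKerEquivOfSurjective hχ
  have e1 : Spec.map (CommRingCat.ofHom (Ideal.Quotient.mk (RingHom.ker χ))) ≫
      Spec.map (CommRingCat.ofHom ψ) =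
      Spec.map (CommRingCat.ofHom ((Ideal.Quotient.mk (RingHom.ker χ)).comp ψ)) := spec_comp _ rfl
  have e2 : Spec.map (CommRingCat.ofHom e.toRingHom) ≫
      Spec.map (CommRingCat.ofHom ((Ideal.Quotient.mk (RingHom.ker χ)).comp ψ)) =
      Spec.map (CommRingCat.ofHom ψ') := spec_comp _ (by rw [← h]; rfl)
  have e3 : Spec.map (CommRingCat.ofHom χ) ≫ Spec.map (CommRingCat.ofHom ψ) =
      Spec.map (CommRingCat.ofHom ψ') := spec_comp χ h
  have e4 : Spec.map (CommRingCat.ofHom e.toRingHom) ≫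
      Spec.map (CommRingCat.ofHom (Ideal.Quotient.mk (RingHom.ker χ))) = Spec.map (CommRingCat.ofHom χ) :=
    spec_comp _ rfl
  have h1 := (res_bijective_iff F _ e1 n).2 (Hpull_affine C (RingHom.ker χ) _
    (Groth.Agent.Etcore.Torsion.isTorsion_pull _ _ hF) n)
  have hi : IsIso (Spec.map (CommRingCat.ofHom e.toRingHom)) := by
    have : IsIso (CommRingCat.ofHom e.toRingHom) := e.toCommRingCatIso.isIso_hom
    infer_instance
  have h3 := LimBC1.res_bijective F _ e2 n
  have h4 : ⇑(res F (Spec.map (CommRingCat.ofHom χ)) e3 n) = ⇑(res F _ e2 n) ∘ ⇑(res F _ e1 n) :=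
    funext fun x => (res_res F _ e1 _ e2 _ e4 e3 n x).symm
  have h5 : Function.Bijective (res F (Spec.map (CommRingCat.ofHom χ)) e3 n) := by
    rw [h4]
    exact h3.comp h1
  exact h5

end LimProp

/-- **Theorem** (Fujiwara–Gabber, principal case): abstract form. -/
theorem Hpull_bijective {B B' : Type u} [CommRing B] [CommRing B'] (D : Dat B) (D' : Dat B')
    (φ : B →+* B') (hR : ∀ x ∈ D.R, φ x ∈ D'.R) (ht : φ D.t = D'.t)
    (hF : ∀ k x, φ x ∈ D'.F k → x ∈ D.F k) (hdens : ∀ (y : B') (k : ℕ), ∃ b : B, φ b - y ∈ D'.F k)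
    (F : EtCoh.Ab (Spec (CommRingCat.of B))) (hFt : EtCoh.IsTorsion F) (n : ℕ)
    [PreservesFiniteLimits (EtCoh.pull (Spec.map (CommRingCat.ofHom φ)))] :
    Function.Bijective (EtCore.Hpull (Spec.map (CommRingCat.ofHom φ)) F n) := by
  have e1 : Spec.map (CommRingCat.ofHom φ) ≫ Spec.map (CommRingCat.ofHom (RingHom.id B)) =
      Spec.map (CommRingCat.ofHom φ) := spec_comp φ (RingHom.comp_id φ)
  have key : Function.Bijective (res F (Spec.map (CommRingCat.ofHom φ)) e1 n) :=
    ConvMain.bijective D D' φ (HF F n) hR ht hF hdens (limProp F n) (hensProp F n hFt)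
  have h1 : Function.Bijective (hp (Spec.map (CommRingCat.ofHom φ))
    ((EtCoh.pull (Spec.map (CommRingCat.ofHom (RingHom.id B)))).obj F) n) := (res_bijective_iff F _ e1 n).1 key
  have e : (EtCoh.pull (Spec.map (CommRingCat.ofHom (RingHom.id B)))).obj F ≅ F :=
    (EtCore.pullCongr (Spec.map_id _)).app F ≪≫ (Groth.Agent.EtpbcA.PullFLC.pullId _).app F
  exact bijective_hp_of_iso _ e h1

end K23.HQAlg
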