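import Groth.Agent.Sga2lef.H107.FibreLoc

/-!
# Strict localizations of two rings with the same quotients

`i : R₀ →+* R₁` with `R₀ / t ^ k → R₁ / (i t) ^ k` bijective for all `k`. If `Spec A ⟶ Spec R₀`, `Spec C ⟶ Spec R₁`
are strict localizations, `β : A →+* C` a compatible local homomorphism and `t` is not a unit in `A`, then
`A / t ^ k → C / t ^ k` is bijective for all `k`.
-/

set_option autoImplicit false
universe u
open CategoryTheory CategoryTheory.Limits AlgebraicGeometry Opposite IsLocalRing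

namespace K23.LocAlg

open Groth.Agent.Etrest.StrictLoc Groth.Agent.Etrest.StrictLocBC Groth.Agent.Sga1.UlaSL
  Groth.Agent.Sga2lef.H107.FibreLoc

/-- `A / t ^ k → C / (β t) ^ k` is bijective for all `k`, elementwise. -/
structure QIso {A C : Type u} [CommRing A] [CommRing C] (β : A →+* C) (t : A) : Prop where
  inj : ∀ (k : ℕ) (a : A), β a ∈ Ideal.span {(β t) ^ k} → a ∈ Ideal.span {t ^ k}
  surj : ∀ (k : ℕ) (y : C), ∃ a : A, β a - y ∈ Ideal.span {(β t) ^ k}

/-- the quotient of a strict localization. -/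
theorem strictLoc_quot {R A : Type u} [CommRing R] [CommRing A] [IsLocalRing A] (s : R →+* A)
    (hs : IsStrictLoc (spm s)) (r : R) (hr : s r ∈ maximalIdeal A) :
    ∃ (_ : IsLocalRing (A ⧸ Ideal.span {s r})) (ψ : R ⧸ Ideal.span {r} →+* A ⧸ Ideal.span {s r}),
      (∀ x, ψ (Ideal.Quotient.mk _ x) = Ideal.Quotient.mk _ (s x)) ∧ IsStrictLoc (spm ψ) := by
  have hle : Ideal.span {s r} ≤ maximalIdeal A := (Ideal.span_singleton_le_iff_mem _).2 hr
  have hnt : Nontrivial (A ⧸ Ideal.span {s r}) :=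
    Ideal.Quotient.nontrivial_iff.2 (fun h => (maximalIdeal.isMaximal A).ne_top (top_le_iff.1 (h ▸ hle)))
  have hloc : IsLocalRing (A ⧸ Ideal.span {s r}) :=
    IsLocalRing.of_surjective' (Ideal.Quotient.mk _) Ideal.Quotient.mk_surjective
  let ψ : R ⧸ Ideal.span {r} →+* A ⧸ Ideal.span {s r} :=
    Ideal.quotientMap _ s (by
      rw [Ideal.span_singleton_le_iff_mem, Ideal.mem_comap]
      exact Ideal.mem_span_singleton_self _)
  have hψ : ∀ x, ψ (Ideal.Quotient.mk _ x) = Ideal.Quotient.mk _ (s x) := fun x => Ideal.quotientMap_mk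
  refine ⟨hloc, ψ, hψ, ?_⟩
  have sq := (isPullback_quot s (Ideal.Quotient.mk (Ideal.span {r})) Ideal.Quotient.mk_surjective
    (Ideal.span {s r}) (by rw [Ideal.mk_ker, Ideal.map_span, Set.image_singleton]) ψ
    (RingHom.ext hψ)).flip
  have : IsLocalHom (Ideal.Quotient.mk (Ideal.span {s r})) :=
    IsLocalHom.of_surjective _ Ideal.Quotient.mk_surjective
  have h5 := isStrictLoc_of_isPullback hs sq (isLocAt_id (A ⧸ Ideal.span {s r}))
    (Ideal.Quotient.mk (Ideal.span {s r}))
    (RingHom.isIntegral_of_surjective _ Ideal.Quotient.mk_surjective) (Category.id_comp _).symm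
  rwa [Category.id_comp] at h5

theorem qiso {R₀ R₁ A C : Type u} [CommRing R₀] [CommRing R₁] [CommRing A] [IsLocalRing A] [CommRing C]
    [IsLocalRing C] (i : R₀ →+* R₁) (t : R₀) (hi : QIso i t) (s : R₀ →+* A) (c : R₁ →+* C)
    (hs : IsStrictLoc (spm s)) (hc : IsStrictLoc (spm c)) (β : A →+* C) [IsLocalHom β]
    (hβ : ∀ x, β (s x) = c (i x)) (ht : s t ∈ maximalIdeal A) : QIso β (s t) := by
  have key : ∀ k : ℕ, k ≠ 0 →
      (∀ a : A, β a ∈ Ideal.span {(β (s t)) ^ k} → a ∈ Ideal.span {(s t) ^ k}) ∧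
      (∀ y : C, ∃ a : A, β a - y ∈ Ideal.span {(β (s t)) ^ k}) := by
    intro k hk
    have e0 : (s t) ^ k = s (t ^ k) := (map_pow s t k).symm
    have e1 : (β (s t)) ^ k = c (i (t ^ k)) := by rw [hβ, map_pow, map_pow]
    have hr0 : s (t ^ k) ∈ maximalIdeal A := by
      rw [← e0]; exact Ideal.pow_mem_of_mem _ ht k (Nat.pos_of_ne_zero hk)
    have hml : maximalIdeal A ≤ (maximalIdeal C).comap β :=
      ((local_hom_TFAE β).out 0 3).1 ‹IsLocalHom β›
    have hr1 : c (i (t ^ k)) ∈ maximalIdeal C := by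
      rw [← hβ]
      exact hml hr0
    rw [e1, e0]
    obtain ⟨hl0, ψ, hψ, hsl0⟩ := strictLoc_quot s hs (t ^ k) hr0
    obtain ⟨hl1, ψ', hψ', hsl1⟩ := strictLoc_quot c hc (i (t ^ k)) hr1
    let e : R₀ ⧸ Ideal.span {t ^ k} →+* R₁ ⧸ Ideal.span {i (t ^ k)} :=
      Ideal.quotientMap _ i (by
        rw [Ideal.span_singleton_le_iff_mem, Ideal.mem_comap]
        exact Ideal.mem_span_singleton_self _)
    have he : ∀ x, e (Ideal.Quotient.mk _ x) = Ideal.Quotient.mk _ (i x) := fun x => Ideal.quotientMap_mk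
    have hbij : Function.Bijective e := by
      constructor
      · rw [injective_iff_map_eq_zero]
        intro x hx
        obtain ⟨x, rfl⟩ := Ideal.Quotient.mk_surjective x
        rw [he, Ideal.Quotient.eq_zero_iff_mem, map_pow] at hx
        rw [Ideal.Quotient.eq_zero_iff_mem]
        exact hi.inj k x hx
      · intro y
        obtain ⟨y, rfl⟩ := Ideal.Quotient.mk_surjective y
        obtain ⟨a, ha⟩ := hi.surj k y
        refine ⟨Ideal.Quotient.mk _ a, ?_⟩
        rw [he, Ideal.Quotient.eq, map_pow]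
        exact ha
    have : IsIso (spm e) := isIso_spm e hbij
    have hsl1' : IsStrictLoc (spm ψ' ≫ spm e) := hsl1.comp (spm e)
    let b : A ⧸ Ideal.span {s (t ^ k)} →+* C ⧸ Ideal.span {c (i (t ^ k))} :=
      Ideal.quotientMap _ β (by
        rw [Ideal.span_singleton_le_iff_mem, Ideal.mem_comap, hβ]
        exact Ideal.mem_span_singleton_self _)
    have hb : ∀ x, b (Ideal.Quotient.mk _ x) = Ideal.Quotient.mk _ (β x) := fun x => Ideal.quotientMap_mk
    have hbl : IsLocalHom b := by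
      refine ⟨fun x hx => ?_⟩
      obtain ⟨x, rfl⟩ := Ideal.Quotient.mk_surjective x
      rw [hb] at hx
      have l1 : IsLocalHom (Ideal.Quotient.mk (Ideal.span {c (i (t ^ k))})) :=
        IsLocalHom.of_surjective _ Ideal.Quotient.mk_surjective
      have h1 : IsUnit (β x) := isUnit_of_map_unit (Ideal.Quotient.mk (Ideal.span {c (i (t ^ k))})) _ hx
      exact (isUnit_of_map_unit β x h1).map _
    have hcomm : spm b ≫ spm ψ = spm ψ' ≫ spm e := by
      rw [← spm_comp, ← spm_comp, spm_inj]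
      apply RingHom.ext
      intro x
      obtain ⟨x, rfl⟩ := Ideal.Quotient.mk_surjective x
      rw [RingHom.comp_apply, RingHom.comp_apply, hψ, hb, he, hψ', hβ]
    have hbb := hsl0.bijective hsl1' b hcomm
    constructor
    · intro a ha
      rw [← Ideal.Quotient.eq_zero_iff_mem, ← hb] at ha
      rw [← Ideal.Quotient.eq_zero_iff_mem]
      exact hbb.1 (ha.trans (map_zero b).symm)
    · intro y
      obtain ⟨x, hx⟩ := hbb.2 (Ideal.Quotient.mk _ y)
      obtain ⟨x, rfl⟩ := Ideal.Quotient.mk_surjective x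
      exact ⟨x, by rw [← Ideal.Quotient.eq, ← hb]; exact hx⟩
  refine ⟨fun k a => ?_, fun k y => ?_⟩
  · rcases eq_or_ne k 0 with rfl | hk
    · intro _
      rw [pow_zero, Ideal.span_singleton_one]
      trivial
    · exact (key k hk).1 a
  · rcases eq_or_ne k 0 with rfl | hk
    · exact ⟨0, by rw [pow_zero, Ideal.span_singleton_one]; trivial⟩
    · exact (key k hk).2 y

end K23.LocAlg
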