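import Groth.Agent.EtCoh.K23.FGAway
import Groth.Agent.EtCoh.K23.LocAlg
import Groth.Agent.S0528
import Groth.Agent.S0543
import Groth.Agent.CalgB.HensPair
import Mathlib.RingTheory.AdicCompletion.Noetherian
import Mathlib.RingTheory.AdicCompletion.Functoriality

/-!
# The map of `t`-adic completions and quotients by powers of ideals
-/

set_option autoImplicit false
universe u

namespace K23.HatMap

open K23.FGAway K23.LocAlg

/-- `A / J ^ n → A' / J ^ n A'` is bijective for all `n`, elementwise. -/
structure QIsoI {A A' : Type u} [CommRing A] [CommRing A'] (φ : A →+* A') (J : Ideal A) : Prop where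
  inj : ∀ (n : ℕ) (a : A), φ a ∈ (J ^ n).map φ → a ∈ J ^ n
  surj : ∀ (n : ℕ) (y : A'), ∃ a : A, φ a - y ∈ (J ^ n).map φ

/-- Contraction and extension agree for ideals containing an ideal with the same quotient. -/
theorem mem_of_map_mem {R S : Type u} [CommRing R] [CommRing S] (f : R →+* S) (K₀ K : Ideal R)
    (hle : K₀ ≤ K) (hinj : ∀ a, f a ∈ K₀.map f → a ∈ K₀)
    (hsurj : ∀ y, ∃ a, f a - y ∈ K₀.map f) (a : R) (ha : f a ∈ K.map f) : a ∈ K := by
  let M : Ideal S :=
    { carrier := {y | ∃ a ∈ K, f a - y ∈ K₀.map f}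
      add_mem' := by
        rintro x y ⟨a, ha, hx⟩ ⟨b, hb, hy⟩
        refine ⟨a + b, K.add_mem ha hb, ?_⟩
        have := Ideal.add_mem _ hx hy
        rwa [show f a - x + (f b - y) = f (a + b) - (x + y) by rw [map_add]; ring] at this
      zero_mem' := ⟨0, K.zero_mem, by rw [map_zero, sub_zero]; exact Ideal.zero_mem _⟩
      smul_mem' := by
        rintro s y ⟨a, ha, hy⟩
        obtain ⟨b, hb⟩ := hsurj s
        refine ⟨b * a, K.mul_mem_left _ ha, ?_⟩
        have h1 := Ideal.add_mem _ (Ideal.mul_mem_left _ (f b) hy) (Ideal.mul_mem_right y _ hb)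
        rwa [show f b * (f a - y) + (f b - s) * y = f (b * a) - s • y by
          rw [map_mul, smul_eq_mul]; ring] at h1 }
  have h1 : K.map f ≤ M := by
    rw [Ideal.map_le_iff_le_comap]
    intro x hx
    exact ⟨x, hx, by rw [sub_self]; exact Ideal.zero_mem _⟩
  obtain ⟨b, hb, h2⟩ := h1 ha
  rw [← map_sub] at h2
  have h3 := hle (hinj _ h2)
  have := K.sub_mem hb h3
  rwa [sub_sub_cancel] at this

/-- Ideals of Noetherian rings are closed. -/
theorem mem_of_forall {R : Type u} [CommRing R] [IsNoetherianRing R] (t : R)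
    (ht : Ideal.span {t} ≤ Ideal.jacobson ⊥) (K : Ideal R) (x : R)
    (hx : ∀ m : ℕ, ∃ z ∈ Ideal.span {t ^ m}, x - z ∈ K) : x ∈ K := by
  have h1 : IsHausdorff (Ideal.span {t}) (R ⧸ K) := IsHausdorff.of_le_jacobson _ _ ht
  have h2 : (Submodule.Quotient.mk x : R ⧸ K) = 0 := by
    refine h1.haus _ fun m => ?_
    rw [SModEq.zero]
    obtain ⟨z, hz, hxz⟩ := hx m
    obtain ⟨r, rfl⟩ := Ideal.mem_span_singleton'.1 hz
    have h3 : (Submodule.Quotient.mk x : R ⧸ K) = (t ^ m) • (Submodule.Quotient.mk r : R ⧸ K) := by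
      rw [← Submodule.Quotient.mk_smul, Submodule.Quotient.eq, smul_eq_mul, mul_comm (t ^ m) r]
      exact hxz
    rw [h3]
    refine Submodule.smul_mem_smul ?_ trivial
    rw [Ideal.span_singleton_pow]
    exact Ideal.mem_span_singleton_self _
  exact (Submodule.Quotient.mk_eq_zero K).1 h2

section

variable {A A' : Type u} [CommRing A] [CommRing A'] (φ : A →+* A') (t : A)

theorem pow_le (n : ℕ) : (Ideal.span {t}) ^ n ≤ ((Ideal.span {φ t}) ^ n).comap φ := by
  rw [Ideal.span_singleton_pow, Ideal.span_singleton_pow, Ideal.span_singleton_le_iff_mem,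
    Ideal.mem_comap, map_pow]
  exact Ideal.mem_span_singleton_self _

theorem hat_compat {m n : ℕ} (hle : m ≤ n) :
    (Ideal.Quotient.factorPow (Ideal.span {φ t}) hle).comp
      ((Ideal.quotientMap ((Ideal.span {φ t}) ^ n) φ (pow_le φ t n)).comp
      (AdicCompletion.evalₐ (Ideal.span {t}) n).toRingHom) =
      ((Ideal.quotientMap ((Ideal.span {φ t}) ^ m) φ (pow_le φ t m)).comp
      (AdicCompletion.evalₐ (Ideal.span {t}) m).toRingHom) := by
  apply RingHom.ext
  intro x
  obtain ⟨x, rfl⟩ := AdicCompletion.mk_surjective (Ideal.span {t}) A x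
  have h1 := AdicCompletion.evalₐ_mk (Ideal.span {t}) n x
  have h2 := AdicCompletion.evalₐ_mk (Ideal.span {t}) m x
  change Ideal.Quotient.factorPow (Ideal.span {φ t}) hle
    (Ideal.quotientMap ((Ideal.span {φ t}) ^ n) φ (pow_le φ t n)
      (AdicCompletion.evalₐ (Ideal.span {t}) n (AdicCompletion.mk _ _ x))) =
    Ideal.quotientMap ((Ideal.span {φ t}) ^ m) φ (pow_le φ t m)
      (AdicCompletion.evalₐ (Ideal.span {t}) m (AdicCompletion.mk _ _ x))
  rw [h1, h2, Ideal.quotientMap_mk, Ideal.quotientMap_mk]
  have h3 := AdicCompletion.Ideal.mk_eq_mk (Ideal.span {t}) hle x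
  rw [Ideal.Quotient.eq] at h3
  have h4 := pow_le φ t m h3
  rw [Ideal.mem_comap, map_sub, ← Ideal.Quotient.eq] at h4
  exact h4

/-- The map of `t`-adic completions. -/
noncomputable def hatMap :
    AdicCompletion (Ideal.span {t}) A →+* AdicCompletion (Ideal.span {φ t}) A' :=
  AdicCompletion.liftRingHom (Ideal.span {φ t})
    (fun n => (Ideal.quotientMap ((Ideal.span {φ t}) ^ n) φ (pow_le φ t n)).comp
      (AdicCompletion.evalₐ (Ideal.span {t}) n).toRingHom)
    (hat_compat φ t)

theorem hatMap_algebraMap (a : A) :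
    hatMap φ t (algebraMap A _ a) = algebraMap A' _ (φ a) := by
  apply AdicCompletion.ext_evalₐ
  intro n
  rw [hatMap, AdicCompletion.evalₐ_liftRingHom (Ideal.span {φ t}) _ (hat_compat φ t)]
  simp

/-- compatibility of ideals. -/
theorem map_map_hat (K : Ideal A) :
    (K.map (algebraMap A (AdicCompletion (Ideal.span {t}) A))).map (hatMap φ t) =
      (K.map φ).map (algebraMap A' (AdicCompletion (Ideal.span {φ t}) A')) := by
  rw [Ideal.map_map, Ideal.map_map]
  exact congrArg (fun f => K.map f) (RingHom.ext (hatMap_algebraMap φ t))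

theorem span_pow_map {R S : Type u} [CommRing R] [CommRing S] (f : R →+* S) (x : R) (m : ℕ) :
    (Ideal.span {x ^ m}).map f = Ideal.span {f x ^ m} := by
  rw [Ideal.map_span, Set.image_singleton, map_pow]

theorem qiso_hat [IsNoetherianRing A] [IsNoetherianRing A'] (J : Ideal A)
    (h : QIsoI φ (Ideal.span {t} ⊔ J)) :
    QIsoI (hatMap φ t) (J.map (algebraMap A (AdicCompletion (Ideal.span {t}) A))) := by
  have hN : IsNoetherianRing (AdicCompletion (Ideal.span {t}) A) := Groth.Agent.S0543.result _ _
  have hN' : IsNoetherianRing (AdicCompletion (Ideal.span {φ t}) A') := Groth.Agent.S0543.result _ _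
  have hH := henselianRing_hat_span A t
  have hH' := henselianRing_hat_span A' (φ t)
  have hmid : ∀ n m : ℕ, (Ideal.span {t} ⊔ J) ^ (m + n) ≤ Ideal.span {t ^ m} ⊔ J ^ n := by
    intro n m
    rw [← Ideal.span_singleton_pow]
    exact Ideal.sup_pow_add_le_pow_sup_pow
  have hK : ∀ n : ℕ, (((J.map (algebraMap A (AdicCompletion (Ideal.span {t}) A))) ^ n).map (hatMap φ t)) =
      ((J ^ n).map φ).map (algebraMap A' (AdicCompletion (Ideal.span {φ t}) A')) := by
    intro n
    rw [← Ideal.map_pow, map_map_hat]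
  constructor
  · intro n a₁ h1
    refine mem_of_forall _ hH.jac _ _ fun m => ?_
    obtain ⟨a, ha⟩ := hat_surj_span A t m a₁
    have h2 : algebraMap A' (AdicCompletion (Ideal.span {φ t}) A') (φ a) ∈
        ((Ideal.span {t ^ m} ⊔ J ^ n).map φ).map
          (algebraMap A' (AdicCompletion (Ideal.span {φ t}) A')) := by
      have e1 : algebraMap A' (AdicCompletion (Ideal.span {φ t}) A') (φ a) = hatMap φ t a₁ +
          hatMap φ t (algebraMap A _ a - a₁) := by
        rw [map_sub, hatMap_algebraMap]; ring
      rw [e1, ← map_map_hat]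
      refine Ideal.add_mem _ ?_ ?_
      · rw [hK, ← map_map_hat] at h1
        exact Ideal.map_mono (Ideal.map_mono le_sup_right) h1
      · refine Ideal.mem_map_of_mem _ ?_
        have h3 : (Ideal.span {t ^ m}).map (algebraMap A (AdicCompletion (Ideal.span {t}) A)) ≤
          (Ideal.span {t ^ m} ⊔ J ^ n).map (algebraMap A (AdicCompletion (Ideal.span {t}) A)) :=
          Ideal.map_mono le_sup_left
        refine h3 ?_
        rw [span_pow_map]
        exact ha
    have h4 : φ a ∈ (Ideal.span {t ^ m} ⊔ J ^ n).map φ := by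
      refine mem_of_map_mem (algebraMap A' (AdicCompletion (Ideal.span {φ t}) A'))
        (Ideal.span {φ t ^ m}) _ ?_ ?_ ?_ _ h2
      · rw [← span_pow_map]
        exact Ideal.map_mono le_sup_left
      · intro x hx
        rw [span_pow_map] at hx
        exact hat_inj_span A' (φ t) m x hx
      · intro y
        rw [span_pow_map]
        exact hat_surj_span A' (φ t) m y
    have h5 : a ∈ Ideal.span {t ^ m} ⊔ J ^ n :=
      mem_of_map_mem φ ((Ideal.span {t} ⊔ J) ^ (m + n)) _ (hmid n m) (h.inj _) (h.surj _) _ h4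
    obtain ⟨z, hz, j, hj, rfl⟩ := Submodule.mem_sup.1 h5
    refine ⟨algebraMap A _ z - (algebraMap A _ (z + j) - a₁), ?_, ?_⟩
    · refine Ideal.sub_mem _ ?_ ha
      rw [← span_pow_map]
      exact Ideal.mem_map_of_mem _ hz
    · rw [← Ideal.map_pow]
      have : a₁ - (algebraMap A (AdicCompletion (Ideal.span {t}) A) z -
          (algebraMap A (AdicCompletion (Ideal.span {t}) A) (z + j) - a₁)) =
          algebraMap A (AdicCompletion (Ideal.span {t}) A) j := by
        rw [map_add]; ring
      rw [this]
      exact Ideal.mem_map_of_mem _ hj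
  · intro n y
    rw [hK]
    set K' := ((J ^ n).map φ).map (algebraMap A' (AdicCompletion (Ideal.span {φ t}) A')) with hK'
    let f : AdicCompletion (Ideal.span {t}) A →+* AdicCompletion (Ideal.span {φ t}) A' ⧸ K' :=
      (Ideal.Quotient.mk K').comp (hatMap φ t)
    have hIf : (Ideal.span {algebraMap A (AdicCompletion (Ideal.span {t}) A) t}).map f =
        (Ideal.span {algebraMap A' (AdicCompletion (Ideal.span {φ t}) A') (φ t)}).map
          (Ideal.Quotient.mk K') := by
      rw [Ideal.map_span, Ideal.map_span, Set.image_singleton, Set.image_singleton,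
        ← hatMap_algebraMap]
      rfl
    have hc : IsAdicComplete (Ideal.span {algebraMap A (AdicCompletion (Ideal.span {t}) A) t})
        (AdicCompletion (Ideal.span {t}) A) := by
      have := isAdicComplete_hat (Ideal.span {t}) ⟨{t}, by simp⟩
      rwa [Ideal.map_span, Set.image_singleton] at this
    have hhaus : IsHausdorff
        ((Ideal.span {algebraMap A (AdicCompletion (Ideal.span {t}) A) t}).map f)
        (AdicCompletion (Ideal.span {φ t}) A' ⧸ K') := by
      refine IsHausdorff.of_le_jacobson _ _ ?_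
      rw [hIf]
      exact (henselian_of_surjective (Ideal.Quotient.mk K') Ideal.Quotient.mk_surjective
        (Ideal.span {algebraMap A' (AdicCompletion (Ideal.span {φ t}) A') (φ t)})).jac
    have hs : Function.Surjective f := by
      refine surjective_of_mk_map_comp_surjective (I := Ideal.span
        {algebraMap A (AdicCompletion (Ideal.span {t}) A) t}) f ?_
      intro z
      obtain ⟨z, rfl⟩ := Ideal.Quotient.mk_surjective z
      obtain ⟨z, rfl⟩ := Ideal.Quotient.mk_surjective z
      obtain ⟨a', ha'⟩ := hat_surj_span A' (φ t) 1 z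
      obtain ⟨a, ha⟩ := h.surj (1 + n) a'
      refine ⟨algebraMap A _ a, ?_⟩
      change Ideal.Quotient.mk _ (Ideal.Quotient.mk K' (hatMap φ t (algebraMap A _ a))) = _
      rw [Ideal.Quotient.eq, ← map_sub, hIf, hatMap_algebraMap]
      have h1 : φ a - a' ∈ (Ideal.span {t ^ 1} ⊔ J ^ n).map φ :=
        Ideal.map_mono (hmid n 1) ha
      rw [Ideal.map_sup, span_pow_map, pow_one] at h1
      obtain ⟨w, hw, j, hj, hwj⟩ := Submodule.mem_sup.1 h1
      have e1 : algebraMap A' (AdicCompletion (Ideal.span {φ t}) A') (φ a) - z =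
          (algebraMap A' (AdicCompletion (Ideal.span {φ t}) A') w +
            (algebraMap A' (AdicCompletion (Ideal.span {φ t}) A') a' - z)) +
          algebraMap A' (AdicCompletion (Ideal.span {φ t}) A') j := by
        have : algebraMap A' (AdicCompletion (Ideal.span {φ t}) A') (φ a - a') =
          algebraMap A' (AdicCompletion (Ideal.span {φ t}) A') (w + j) := by rw [hwj]
        rw [map_sub, map_add] at this
        linear_combination this
      rw [e1, map_add (Ideal.Quotient.mk K'), (Ideal.Quotient.eq_zero_iff_mem (I := K')).2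
        (Ideal.mem_map_of_mem _ hj), add_zero]
      refine Ideal.mem_map_of_mem _ (Ideal.add_mem _ ?_ ?_)
      · have := Ideal.mem_map_of_mem (algebraMap A' (AdicCompletion (Ideal.span {φ t}) A')) hw
        rwa [Ideal.map_span, Set.image_singleton] at this
      · rwa [pow_one] at ha'
    obtain ⟨x, hx⟩ := hs (Ideal.Quotient.mk K' y)
    exact ⟨x, Ideal.Quotient.eq.1 hx⟩

/-- Completions of henselian pairs with respect to a smaller ideal. -/
theorem henselian_hat (J : Ideal A) [HenselianRing A (Ideal.span {t} ⊔ J)] :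
    HenselianRing (AdicCompletion (Ideal.span {t}) A)
      (J.map (algebraMap A (AdicCompletion (Ideal.span {t}) A))) := by
  have h1 : HenselianRing (AdicCompletion (Ideal.span {t}) A)
      ((Ideal.span {t} ⊔ J).map (algebraMap A (AdicCompletion (Ideal.span {t}) A))) := by
    refine (Groth.Agent.S0528.result _
      (Ideal.span {algebraMap A (AdicCompletion (Ideal.span {t}) A) t}) _ ?_).2
      ⟨henselianRing_hat_span A t, ?_⟩
    · rw [Ideal.map_sup, Ideal.map_span, Set.image_singleton]
      exact le_sup_left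
    · rw [Ideal.map_map]
      refine henselian_of_surjective _ ?_ _
      intro z
      obtain ⟨z, rfl⟩ := Ideal.Quotient.mk_surjective z
      obtain ⟨a, ha⟩ := hat_surj_span A t 1 z
      rw [pow_one] at ha
      exact ⟨a, Ideal.Quotient.eq.2 ha⟩
  exact Groth.Agent.CalgB.HensPair.henselian_of_le h1 (Ideal.map_mono le_sup_right)

end

end K23.HatMap
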