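import Groth.Agent.EtCoh.K23.HensStep
import Groth.Agent.EtCoh.K23.HatMap
import Mathlib.RingTheory.Regular.RegularSequence

/-!
# Henselian pairs with isomorphic completions have the same cohomology outside the closed subset

Induction on the number of generators of the ideal.
-/

set_option autoImplicit false
set_option backward.isDefEq.respectTransparency.types false
universe u
open CategoryTheory CategoryTheory.Limits AlgebraicGeometry Opposite

namespace K23.HensMain

open Groth.Agent.Etrest.StrictLoc Groth.Agent.Ega2.LACRB Groth.Agent.Sga1.UlaSL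
  K23.LocAlg K23.HatMap K23.FGAway

theorem mem_range_of_isPullback {A A' : Type u} [CommRing A] [CommRing A'] {φ : A →+* A'}
    {U U' : Scheme.{u}} {j : U ⟶ Spec (CommRingCat.of A)} {g : U' ⟶ U}
    {j' : U' ⟶ Spec (CommRingCat.of A')} (h : IsPullback g j' j (spm φ))
    (y : PrimeSpectrum A') (hy : PrimeSpectrum.comap φ y ∈ Set.range j) : y ∈ Set.range j' := by
  obtain ⟨u, hu⟩ := hy
  obtain ⟨z, hz1, hz2⟩ := Scheme.Pullback.exists_preimage_pullback (f := j) (g := spm φ) u y hu
  exact ⟨h.isoPullback.inv z, by rw [← Scheme.Hom.comp_apply, h.isoPullback_inv_snd, hz2]⟩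

/-- The principal step: passage to the completion. -/
theorem inv_hat {A : Type u} [CommRing A] (t : A) [HenselianRing A (Ideal.span {t})]
    {U U₁ : Scheme.{u}} (j : U ⟶ Spec (CommRingCat.of A)) [IsOpenImmersion j]
    (hU : ∀ x : PrimeSpectrum A, t ∉ x.asIdeal → x ∈ Set.range j)
    (a : U₁ ⟶ U) (j₁ : U₁ ⟶ Spec (CommRingCat.of (AdicCompletion (Ideal.span {t}) A)))
    (h : IsPullback a j₁ j (spm (algebraMap A (AdicCompletion (Ideal.span {t}) A))))
    (F : EtCoh.Ab U) (hF : EtCoh.IsTorsion F) : Inv a F := by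
  have := henselianRing_hat_span A t
  exact HensStep.step (algebraMap A (AdicCompletion (Ideal.span {t}) A)) t
    ⟨hat_inj_span A t, hat_surj_span A t⟩ j hU a j₁ h F hF

theorem main (n : ℕ) : ∀ {A A' : Type u} [CommRing A] [CommRing A'] [IsNoetherianRing A]
    [IsNoetherianRing A'] (φ : A →+* A') (l : List A) (_ : l.length = n)
    [HenselianRing A (Ideal.ofList l)] [HenselianRing A' ((Ideal.ofList l).map φ)]
    (_ : QIsoI φ (Ideal.ofList l)) {U U' : Scheme.{u}} (j : U ⟶ Spec (CommRingCat.of A))
    [IsOpenImmersion j] (_ : ∀ x : PrimeSpectrum A, ¬ Ideal.ofList l ≤ x.asIdeal → x ∈ Set.range j)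
    (g : U' ⟶ U) (j' : U' ⟶ Spec (CommRingCat.of A')) (_ : IsPullback g j' j (spm φ))
    (F : EtCoh.Ab U) (_ : EtCoh.IsTorsion F), Inv g F := by
  induction n with
  | zero =>
    intro A A' _ _ _ _ φ l hl _ _ hq U U' j _ _ g j' h F _
    obtain rfl : l = [] := List.length_eq_zero_iff.1 hl
    have hb : Function.Bijective φ := by
      constructor
      · rw [injective_iff_map_eq_zero]
        intro x hx
        have := hq.inj 1 x (by rw [hx]; exact Ideal.zero_mem _)
        rwa [pow_one, Ideal.ofList_nil, Ideal.mem_bot] at this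
      · intro y
        obtain ⟨a, ha⟩ := hq.surj 1 y
        rw [pow_one, Ideal.ofList_nil, Ideal.map_bot, Ideal.mem_bot, sub_eq_zero] at ha
        exact ⟨a, ha⟩
    have h1 : IsIso (spm φ) := isIso_spm φ hb
    have h2 : IsIso g := (MorphismProperty.isomorphisms Scheme.{u}).of_isPullback h.flip h1
    exact Inv.of_isIso g F
  | succ n ih =>
    intro A A' _ _ _ _ φ l hl hA hA' hq U U' j _ hU g j' h F hF
    obtain ⟨t, l, rfl⟩ : ∃ t l', l = t :: l' := by
      cases l with
      | nil => simp at hl
      | cons t l => exact ⟨t, l, rfl⟩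
    rw [Ideal.ofList_cons] at hA hA' hq hU
    have hl' : l.length = n := by simpa using hl
    set J := Ideal.ofList l with hJ
    have hj' : IsOpenImmersion j' := MorphismProperty.of_isPullback h ‹IsOpenImmersion j›
    have hA'' : HenselianRing A' (Ideal.span {φ t} ⊔ J.map φ) := by
      rwa [Ideal.map_sup, Ideal.map_span, Set.image_singleton] at hA'
    have hAt : HenselianRing A (Ideal.span {t}) :=
      Groth.Agent.CalgB.HensPair.henselian_of_le hA le_sup_left
    have hAt' : HenselianRing A' (Ideal.span {φ t}) :=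
      Groth.Agent.CalgB.HensPair.henselian_of_le hA'' le_sup_left
    have hN : IsNoetherianRing (AdicCompletion (Ideal.span {t}) A) := Groth.Agent.S0543.result _ _
    have hN' : IsNoetherianRing (AdicCompletion (Ideal.span {φ t}) A') := Groth.Agent.S0543.result _ _
    -- the base changes
    let ι : A →+* AdicCompletion (Ideal.span {t}) A := algebraMap _ _
    let ι' : A' →+* AdicCompletion (Ideal.span {φ t}) A' := algebraMap _ _
    let φ₁ : AdicCompletion (Ideal.span {t}) A →+* AdicCompletion (Ideal.span {φ t}) A' :=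
      hatMap φ t
    have hcomm : spm ι' ≫ spm φ = spm φ₁ ≫ spm ι := by
      rw [← spm_comp, ← spm_comp, spm_inj]
      exact RingHom.ext fun x => (hatMap_algebraMap φ t x).symm
    have sq₁ : IsPullback (pullback.fst j (spm ι)) (pullback.snd j (spm ι)) j (spm ι) :=
      IsPullback.of_hasPullback _ _
    have sq₁' : IsPullback (pullback.fst j' (spm ι')) (pullback.snd j' (spm ι')) j' (spm ι') :=
      IsPullback.of_hasPullback _ _
    have out := sq₁'.paste_horiz h
    rw [hcomm] at out
    let g₁ : pullback j' (spm ι') ⟶ pullback j (spm ι) :=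
      sq₁.lift (pullback.fst j' (spm ι') ≫ g) (pullback.snd j' (spm ι') ≫ spm φ₁) (by
        rw [out.w, Category.assoc])
    have hg₁ : g₁ ≫ pullback.fst j (spm ι) = pullback.fst j' (spm ι') ≫ g := sq₁.lift_fst _ _ _
    have hg₂ : g₁ ≫ pullback.snd j (spm ι) = pullback.snd j' (spm ι') ≫ spm φ₁ := sq₁.lift_snd _ _ _
    have sqg : IsPullback g₁ (pullback.snd j' (spm ι')) (pullback.snd j (spm ι)) (spm φ₁) :=
      IsPullback.of_right (h₁₁ := g₁) (h₁₂ := pullback.fst j (spm ι)) (h₂₁ := spm φ₁)
        (h₂₂ := spm ι) (v₁₃ := j) (by rw [hg₁]; exact out) hg₂ sq₁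
    have hUt : ∀ x : PrimeSpectrum A, t ∉ x.asIdeal → x ∈ Set.range j := fun x hx =>
      hU x fun hle => hx (hle (Ideal.mem_sup_left (Ideal.mem_span_singleton_self t)))
    have hUt' : ∀ x : PrimeSpectrum A', φ t ∉ x.asIdeal → x ∈ Set.range j' := fun x hx =>
      mem_range_of_isPullback h x (hUt _ hx)
    have hopen : IsOpenImmersion (pullback.snd j (spm ι)) := inferInstance
    have H1 : Inv (pullback.fst j (spm ι)) F := inv_hat t j hUt _ _ sq₁ F hF
    have e1 : (Ideal.ofList (l.map ι)) = J.map ι := (Ideal.map_ofList ι l).symm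
    have i1 : HenselianRing (AdicCompletion (Ideal.span {t}) A) (Ideal.ofList (l.map ι)) := by
      rw [e1]; exact henselian_hat t J
    have i2 : HenselianRing (AdicCompletion (Ideal.span {φ t}) A') ((Ideal.ofList (l.map ι)).map φ₁) := by
      rw [e1, map_map_hat]
      exact henselian_hat (φ t) (J.map φ)
    have H2 : Inv g₁ ((EtCoh.pull (pullback.fst j (spm ι))).obj F) := by
      refine ih φ₁ (l.map ι) (by rw [List.length_map, hl']) ?_ (pullback.snd j (spm ι)) ?_ g₁
        (pullback.snd j' (spm ι')) sqg _ (Groth.Agent.Etcore.Torsion.isTorsion_pull _ F hF)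
      · rw [e1]
        exact qiso_hat φ t J hq
      · intro x hx
        refine mem_range_of_isPullback sq₁ x (hU _ fun hle => hx ?_)
        rw [e1, Ideal.map_le_iff_le_comap]
        exact le_sup_right.trans hle
    have H3 : Inv (pullback.fst j' (spm ι') ≫ g) F := (H2.comp H1).congr hg₁
    have H4 : Inv (pullback.fst j' (spm ι')) ((EtCoh.pull g).obj F) :=
      inv_hat (φ t) j' hUt' _ _ sq₁' _ (Groth.Agent.Etcore.Torsion.isTorsion_pull g F hF)
    exact Inv.of_comp_right H4 H3

end K23.HensMain
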