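import Groth.Agent.EtCoh.K23.LocAlg
import Groth.Agent.EtCoh.K23.BCHens
import Groth.Agent.EtCoh.K23.FGMain
import Groth.Agent.Pi1A.LefExt

/-!
# Henselian pairs with the same completion: one function

`i : R₀ →+* R₁`, `t : R₀`, `(R₀, t)`, `(R₁, i t)` henselian, `R₀ / t ^ k → R₁ / (i t) ^ k` bijective for all `k`.
For an open `U` of `Spec R₀` containing `D(t)` the cohomology of torsion sheaves on `U` and on `U ×_{R₀} R₁` agree.
-/

set_option autoImplicit false
set_option backward.isDefEq.respectTransparency.types false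
universe u
open CategoryTheory CategoryTheory.Limits AlgebraicGeometry Opposite IsLocalRing

namespace K23.HensStep

open Groth.Agent.Etrest.StrictLoc Groth.Agent.Ega2.LACRB Groth.Agent.Sga1.UlaSL
  Groth.Agent.Sga2lef.H107.FibreLoc K23.LocAlg

theorem range_away {A A' : Type u} [CommRing A] [CommRing A'] [Algebra A A'] (t : A)
    [IsLocalization.Away t A'] :
    Set.range (spm (algebraMap A A')) = (PrimeSpectrum.basicOpen t : Set (PrimeSpectrum A)) :=
  PrimeSpectrum.localization_away_comap_range A' t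

/-- transport to open immersions with given ranges. -/
theorem inv_of_range {A C : Type u} [CommRing A] [CommRing C] (β : A →+* C) (t : A)
    [HenselianRing A (Ideal.span {t})] [HenselianRing C (Ideal.span {β t})] (h : QIso β t)
    {P Q : Scheme.{u}} (p : P ⟶ Spec (CommRingCat.of A)) [IsOpenImmersion p]
    (hp : Set.range p = (PrimeSpectrum.basicOpen t : Set (PrimeSpectrum A)))
    (q : Q ⟶ Spec (CommRingCat.of C)) [IsOpenImmersion q]
    (hq : Set.range q = (PrimeSpectrum.basicOpen (β t) : Set (PrimeSpectrum C)))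
    (g : Q ⟶ P) (hg : g ≫ p = q ≫ spm β) (G : EtCoh.Ab P) (hG : EtCoh.IsTorsion G) : Inv g G := by
  let φ : Localization.Away t →+* Localization.Away (β t) :=
    IsLocalization.Away.map (Localization.Away t) (Localization.Away (β t)) β t
  have hφ : ∀ a, φ (algebraMap A (Localization.Away t) a) =
      algebraMap C (Localization.Away (β t)) (β a) := fun a => IsLocalization.map_eq _ a
  let p' : Spec (CommRingCat.of (Localization.Away t)) ⟶ Spec (CommRingCat.of A) :=
    spm (algebraMap A (Localization.Away t))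
  let q' : Spec (CommRingCat.of (Localization.Away (β t))) ⟶ Spec (CommRingCat.of C) :=
    spm (algebraMap C (Localization.Away (β t)))
  have hp' : IsOpenImmersion p' := IsOpenImmersion.of_isLocalization t
  have hq' : IsOpenImmersion q' := IsOpenImmersion.of_isLocalization (β t)
  let e₀ : P ≅ Spec (CommRingCat.of (Localization.Away t)) :=
    IsOpenImmersion.isoOfRangeEq p p' (hp.trans (range_away t).symm)
  let e₁ : Q ≅ Spec (CommRingCat.of (Localization.Away (β t))) :=
    IsOpenImmersion.isoOfRangeEq q q' (hq.trans (range_away (β t)).symm)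
  have h0 : e₀.hom ≫ p' = p := IsOpenImmersion.isoOfRangeEq_hom_fac _ _ _
  have h1 : e₁.hom ≫ q' = q := IsOpenImmersion.isoOfRangeEq_hom_fac _ _ _
  have h2 : spm φ ≫ p' = q' ≫ spm β := by
    rw [← spm_comp, ← spm_comp, spm_inj]
    exact RingHom.ext hφ
  have hsq : g ≫ e₀.hom = e₁.hom ≫ spm φ := by
    rw [← cancel_mono p', Category.assoc, Category.assoc, h0, hg, h2, ← Category.assoc, h1]
  have H : RB G (spm φ) e₀.inv := fun n =>
    FGMain.Hpull_bijective_away t (β t) β rfl h.inj h.surj φ hφ _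
      (Groth.Agent.Etcore.Torsion.isTorsion_pull e₀.inv G hG) n
  have H2 : RB G g (𝟙 P) := H.of_square e₁.hom e₀.hom hsq e₀.hom_inv_id
  exact Inv.of_iso H2 ((Groth.Agent.EtpbcA.PullFLC.pullId P).app G)

theorem pc {R₀ R₁ : Type u} [CommRing R₀] [CommRing R₁] (i : R₀ →+* R₁) (t : R₀) (hi : QIso i t)
    {U U₁ V : Scheme.{u}} (j : U ⟶ Spec (CommRingCat.of R₀)) [IsOpenImmersion j]
    (j₁ : U₁ ⟶ Spec (CommRingCat.of R₁)) [IsOpenImmersion j₁] (f : U₁ ⟶ U)
    (hf : f ≫ j = j₁ ≫ spm i) (k : V ⟶ U) [IsOpenImmersion k]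
    (hk : Set.range (k ≫ j) = (PrimeSpectrum.basicOpen t : Set (PrimeSpectrum R₀))) :
    BCHens.PC f k := by
  intro A C _ _ _ _ σ τ β hσ hτ hβl hβ hp G hG
  obtain ⟨s, hs⟩ : ∃ s : R₀ →+* A, spm s = σ ≫ j :=
    ⟨(Spec.preimage (σ ≫ j)).hom, Spec.map_preimage (σ ≫ j)⟩
  obtain ⟨c, hc⟩ : ∃ c : R₁ →+* C, spm c = τ ≫ j₁ :=
    ⟨(Spec.preimage (τ ≫ j₁)).hom, Spec.map_preimage (τ ≫ j₁)⟩
  have hs' : IsStrictLoc (spm s) := by rw [hs]; exact hσ.comp j
  have hc' : IsStrictLoc (spm c) := by rw [hc]; exact hτ.comp j₁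
  have hβ' : ∀ x, β (s x) = c (i x) := by
    have h1 : spm (β.comp s) = spm (c.comp i) := by
      rw [spm_comp, spm_comp, hs, hc, Category.assoc, ← hf, ← Category.assoc, hβ, Category.assoc]
    exact RingHom.congr_fun (spm_inj.1 h1)
  have hrange : Set.range (pullback.snd k σ) =
      (PrimeSpectrum.basicOpen (s t) : Set (PrimeSpectrum A)) := by
    rw [Scheme.Pullback.range_snd]
    ext x
    have h1 : (x ∈ (PrimeSpectrum.basicOpen (s t) : Set (PrimeSpectrum A))) ↔
        (σ ≫ j) x ∈ Set.range (k ≫ j) := by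
      rw [hk, ← hs]
      exact Iff.rfl
    refine Iff.trans ?_ h1.symm
    rw [Scheme.Hom.comp_apply]
    constructor
    · rintro ⟨v, hv⟩
      exact ⟨v, by rw [Scheme.Hom.comp_apply, hv]⟩
    · rintro ⟨v, hv⟩
      rw [Scheme.Hom.comp_apply] at hv
      exact ⟨v, j.injective hv⟩
  have ht : s t ∈ maximalIdeal A := by
    by_contra hu
    apply hp
    have h1 : closedPoint A ∈ (PrimeSpectrum.basicOpen (s t) : Set (PrimeSpectrum A)) := hu
    rw [← hrange, Scheme.Pullback.range_snd] at h1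
    exact h1
  have hQ := LocAlg.qiso i t hi s c hs' hc' β hβ' ht
  have := hσ.henselian
  have := hτ.henselian
  have hml : maximalIdeal A ≤ (maximalIdeal C).comap β :=
    ((local_hom_TFAE β).out 0 3).1 hβl
  have i1 : HenselianRing A (Ideal.span {s t}) :=
    Groth.Agent.Pi1A.LefExt.henselianRing_of_le _ ((Ideal.span_singleton_le_iff_mem _).2 ht)
  have i2 : HenselianRing C (Ideal.span {β (s t)}) :=
    Groth.Agent.Pi1A.LefExt.henselianRing_of_le _ ((Ideal.span_singleton_le_iff_mem _).2 (hml ht))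
  refine inv_of_range β (s t) hQ (pullback.snd k σ) hrange
    (pullback.snd (pullback.snd k σ) (spm β)) ?_ _ pullback.condition G hG
  rw [Scheme.Pullback.range_snd, hrange]
  rfl

theorem step {R₀ R₁ : Type u} [CommRing R₀] [CommRing R₁] (i : R₀ →+* R₁) (t : R₀)
    [HenselianRing R₀ (Ideal.span {t})] [HenselianRing R₁ (Ideal.span {i t})] (hi : QIso i t)
    {U U₁ : Scheme.{u}} (j : U ⟶ Spec (CommRingCat.of R₀)) [IsOpenImmersion j]
    (hU : ∀ x : PrimeSpectrum R₀, t ∉ x.asIdeal → x ∈ Set.range j)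
    (f : U₁ ⟶ U) (j₁ : U₁ ⟶ Spec (CommRingCat.of R₁)) (h : IsPullback f j₁ j (spm i))
    (F : EtCoh.Ab U) (hF : EtCoh.IsTorsion F) : Inv f F := by
  have hj₁ : IsOpenImmersion j₁ := MorphismProperty.of_isPullback h ‹IsOpenImmersion j›
  let ρ : Spec (CommRingCat.of (Localization.Away t)) ⟶ Spec (CommRingCat.of R₀) :=
    spm (algebraMap R₀ (Localization.Away t))
  have hρi : IsOpenImmersion ρ := IsOpenImmersion.of_isLocalization t
  have hρ : Set.range ρ = (PrimeSpectrum.basicOpen t : Set (PrimeSpectrum R₀)) := range_away t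
  let k : Spec (CommRingCat.of (Localization.Away t)) ⟶ U :=
    IsOpenImmersion.lift j ρ (by rw [hρ]; intro x hx; exact hU x hx)
  have hk : k ≫ j = ρ := IsOpenImmersion.lift_fac _ _ _
  have hkj : IsOpenImmersion (k ≫ j) := by rw [hk]; exact hρi
  have hki : IsOpenImmersion k := IsOpenImmersion.of_comp k j
  have hkq' : QuasiCompact (k ≫ j) := by rw [hk]; infer_instance
  have hkq : QuasiCompact k := QuasiCompact.of_comp k j
  have hkr : Set.range (k ≫ j) = (PrimeSpectrum.basicOpen t : Set (PrimeSpectrum R₀)) := by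
    rw [hk, hρ]
  -- the closed part
  let π : R₀ →+* R₀ ⧸ Ideal.span {t} := Ideal.Quotient.mk _
  have hπ : Function.Surjective π := Ideal.Quotient.mk_surjective
  have : IsClosedImmersion (spm π) := IsClosedImmersion.spec_of_surjective _ hπ
  let ψ : R₀ ⧸ Ideal.span {t} →+* R₁ ⧸ Ideal.span {i t} :=
    Ideal.quotientMap _ i (by
      rw [Ideal.span_singleton_le_iff_mem, Ideal.mem_comap]
      exact Ideal.mem_span_singleton_self _)
  have hψ : ∀ x, ψ (π x) = Ideal.Quotient.mk _ (i x) := fun x => Ideal.quotientMap_mk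
  have hψb : Function.Bijective ψ := by
    constructor
    · rw [injective_iff_map_eq_zero]
      intro x hx
      obtain ⟨x, rfl⟩ := Ideal.Quotient.mk_surjective x
      have hx' : i x ∈ Ideal.span {i t} := Ideal.Quotient.eq_zero_iff_mem.1 ((hψ x).symm.trans hx)
      have := hi.inj 1 x (by rwa [pow_one])
      rw [Ideal.Quotient.eq_zero_iff_mem]
      rwa [pow_one] at this
    · intro y
      obtain ⟨y, rfl⟩ := Ideal.Quotient.mk_surjective y
      obtain ⟨a, ha⟩ := hi.surj 1 y
      rw [pow_one] at ha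
      exact ⟨π a, (hψ a).trans (Ideal.Quotient.eq.2 ha)⟩
  have sq1 : IsPullback (spm (Ideal.Quotient.mk (Ideal.span {i t}))) (spm ψ) (spm i) (spm π) :=
    isPullback_quot i π hπ (Ideal.span {i t})
      (by rw [Ideal.mk_ker, Ideal.map_span, Set.image_singleton]) ψ (RingHom.ext hψ)
  have hψi : IsIso (spm ψ) := isIso_spm ψ hψb
  let i₀ : pullback j (spm π) ⟶ U := pullback.fst j (spm π)
  have sqZ : IsPullback i₀ (pullback.snd j (spm π)) j (spm π) := IsPullback.of_hasPullback _ _
  have sqZ' : IsPullback (pullback.fst f i₀) (pullback.snd f i₀) f i₀ := IsPullback.of_hasPullback _ _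
  have big := sqZ'.paste_vert sqZ
  rw [h.w] at big
  let l : pullback f i₀ ⟶ Spec (CommRingCat.of (R₁ ⧸ Ideal.span {i t})) :=
    sq1.lift (pullback.fst f i₀ ≫ j₁) (pullback.snd f i₀ ≫ pullback.snd j (spm π)) (by
      rw [Category.assoc]; exact big.w)
  have hl1 : l ≫ spm (Ideal.Quotient.mk (Ideal.span {i t})) = pullback.fst f i₀ ≫ j₁ :=
    sq1.lift_fst _ _ _
  have hl2 : l ≫ spm ψ = pullback.snd f i₀ ≫ pullback.snd j (spm π) := sq1.lift_snd _ _ _
  have top : IsPullback (pullback.fst f i₀) l j₁ (spm (Ideal.Quotient.mk (Ideal.span {i t}))) :=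
    IsPullback.of_bot (h₁₁ := pullback.fst f i₀) (v₁₁ := l) (v₁₂ := j₁)
      (h₂₁ := spm (Ideal.Quotient.mk (Ideal.span {i t}))) (v₂₁ := spm ψ) (v₂₂ := spm i)
      (h₃₁ := spm π) (by rw [hl2]; exact big) hl1.symm sq1
  have big2 := top.flip.paste_vert h.flip
  rw [sqZ'.w, sq1.w] at big2
  have fin : IsPullback l (pullback.snd f i₀) (spm ψ) (pullback.snd j (spm π)) :=
    IsPullback.of_bot (h₁₁ := l) (v₁₁ := pullback.snd f i₀) (v₁₂ := spm ψ)
      (h₂₁ := pullback.snd j (spm π)) (v₂₁ := i₀) (v₂₂ := spm π)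
      (h₃₁ := j) big2 hl2 sqZ.flip
  have hfZ : IsIso (pullback.snd f i₀) :=
    (MorphismProperty.isomorphisms Scheme.{u}).of_isPullback fin hψi
  have hZr : Set.range i₀ = j ⁻¹' (PrimeSpectrum.zeroLocus {t} : Set (PrimeSpectrum R₀)) := by
    rw [Scheme.Pullback.range_fst]
    congr 1
    refine (range_comap_of_surjective _ π hπ).trans ?_
    rw [Ideal.mk_ker, PrimeSpectrum.zeroLocus_span]
  have hVr : Set.range k = j ⁻¹' (PrimeSpectrum.basicOpen t : Set (PrimeSpectrum R₀)) := by
    rw [← hkr]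
    ext x
    constructor
    · rintro ⟨v, rfl⟩
      exact ⟨v, Scheme.Hom.comp_apply _ _ _⟩
    · rintro ⟨v, hv⟩
      rw [Scheme.Hom.comp_apply] at hv
      exact ⟨v, j.injective hv⟩
  have hd : IsCompl (Set.range i₀) (Set.range k) := by
    rw [hZr, hVr, PrimeSpectrum.basicOpen_eq_zeroLocus_compl]
    exact isCompl_compl
  refine BCHens.inv hd (IsPullback.of_hasPullback f k) sqZ' (pc i t hi j j₁ f h.w k hkr) ?_ F hF
  intro G hG
  refine inv_of_range i t hi (k ≫ j) hkr (pullback.fst f k ≫ j₁) ?_ (pullback.snd f k) ?_ G hG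
  · ext y
    constructor
    · rintro ⟨v, rfl⟩
      have h1 : (spm i) ((pullback.fst f k ≫ j₁) v) ∈ Set.range (k ≫ j) := by
        rw [← Scheme.Hom.comp_apply, Category.assoc, ← h.w, ← Category.assoc, pullback.condition,
          Category.assoc, Scheme.Hom.comp_apply]
        exact ⟨_, rfl⟩
      rw [hkr] at h1
      exact h1
    · intro hy
      have hy' : (spm i) y ∈ (PrimeSpectrum.basicOpen t : Set (PrimeSpectrum R₀)) := hy
      obtain ⟨u, hu⟩ := hU _ hy'
      obtain ⟨z, hz1, hz2⟩ := Scheme.Pullback.exists_preimage_pullback (f := j) (g := spm i) u y hu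
      rw [← hkr, ← hu] at hy'
      obtain ⟨v, hv⟩ := hy'
      rw [Scheme.Hom.comp_apply] at hv
      have hv' := j.injective hv
      have h3 : f (h.isoPullback.inv z) = u := by
        rw [← Scheme.Hom.comp_apply, h.isoPullback_inv_fst, hz1]
      have h4 : j₁ (h.isoPullback.inv z) = y := by
        rw [← Scheme.Hom.comp_apply, h.isoPullback_inv_snd, hz2]
      have h5 : h.isoPullback.inv z ∈ Set.range (pullback.fst f k) := by
        rw [Scheme.Pullback.range_fst]
        exact ⟨v, hv'.trans h3.symm⟩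
      obtain ⟨w, hw⟩ := h5
      exact ⟨w, by rw [Scheme.Hom.comp_apply, hw, h4]⟩
  · rw [Category.assoc, ← h.w, ← Category.assoc, ← Category.assoc, pullback.condition]

end K23.HensStep
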